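import Cfsg.Agent.H45.UniE.Transfer
import Cfsg.Agent.H564.U.FTab
import Cfsg.Agent.H887.VX.F4
import Cfsg.Prelude.Def_ChevAutomorphisms

/-!
# The datum for `F4` in characteristic two, with root lengths (helper564; own characteristic of `2F4(q)`)

* `datQ D qq n hn hq` : the datum `DatR` of `FDat.cc n` with exponents `qq b` depending on the root `b`, `n i < qq (zi i)`;
* `qF m b` : `2 ^ m` for `b` long, `2 ^ (m + 1)` for `b` short;
* `exists_fdat_F4` : fundamental functions for `chevF4.group k`, `k` of characteristic two, with vertex pair and the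
  refined commutator formula `Cmq`.
-/

set_option autoImplicit false
set_option linter.unusedSectionVars false

namespace Cfsg.Agent.H564.TW

open Cfsg Cfsg.Lie Cfsg.Lie.ChevalleyDatum
open Cfsg.Agent.H45.UniE Cfsg.Agent.H405.UE
open Cfsg.Agent.ChevalleyStructure Cfsg.Agent.ChevalleyStructure.Elts Cfsg.Agent.ChevalleyStructure.NPerm
  Cfsg.Agent.ChevalleyStructure.RootVec
open Cfsg.Agent.Nodes.RGDChev Cfsg.Agent.KFacts.RgdChevCoord Cfsg.Agent.Nodes Cfsg.Agent.H564.U
open Cfsg.Agent.H129.TorusChar Cfsg.Agent.Tits.Roots Cfsg.Agent.ChevalleyStructure.CoxeterGeom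
  Cfsg.Agent.ChevalleyStructure.CoxeterGeomTypes

universe u

/-! ### the datum with exponents -/

section dat

variable {ι Φ k G : Type*} [Field k] [Group G] [DecidableEq ι]

/-- the commutator formula with exponents -/
def Cmq (D : GDat ι Φ k G) (qq : Φ → ℕ) : Prop :=
  ∀ i b s, ∃ l : List (Φ × k × ℕ), (∀ a ∈ l, 0 < a.2.2 ∧ qq b ≤ a.2.2 * qq a.1) ∧
    ∀ t, D.x i (-s) * D.z b t * D.x i s = (l.map fun a => D.z a.1 (a.2.1 * t ^ a.2.2)).prod

/-- **the datum of `cc n`**, exponents `qq` -/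
def datQ [Fintype ι] [Infinite k] (D : FDat ι Φ k G) (qq : Φ → ℕ) (n : ι → ℕ) (hn : ∀ i, n i < qq (D.zi i))
    (hqq : ∀ b, 0 < qq b) (hq : Cmq D.toGDat qq) : DatR ι Φ k G where
  toGDat := D.toGDat
  qq := qq
  qq_pos := hqq
  c := D.cc n
  wt := ∑ i, D.wt i * n i
  N := ∑ i : ι, n i * D.N
  M := ∑ i : ι, D.M * n i
  c_one := D.cc_one n
  c_x g i s := D.cc_x n g i s
  c_y g i s := D.cc_y n g i s
  c_T t ht g := D.cc_T_mul n ht g
  c_δ g s := by rw [D.cc_mul_T n (D.δ_mem s), D.cc_δ]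
  cmq := hq
  pol_z b g h := D.cc_pol_z n b g h
  pol_y i g h := by
    obtain ⟨P, -, hP⟩ := D.cc_pol_y n i g h
    exact ⟨P, hP⟩
  pol_δ g h := D.cc_pol_δ n g h
  deg i g := by
    obtain ⟨P, hP, hP'⟩ := D.cc_deg_x n i g
    exact ⟨P, hP.trans_lt (hn i), hP'⟩

end dat

/-! ### the refined commutator formula -/

section cmt

variable {D : ChevalleyDatum} {l : ℕ} {M : CoxeterMatrix (Fin l)} (hp : IsType D l M) {k : Type u} [Field k]

/-- the commutator formula for a simple and a positive root, terms with nonzero coefficients only -/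
theorem zz_cmt' (i : Fin l) (b : PR D) (s : k) : ∃ L : List (PR D × k × ℕ),
    (∀ a ∈ L, 0 < a.2.2 ∧ (a = (b, 1, 1) ∨ ∃ c ∈ D.commTerms (D.simple i) b.1, (c.2.1 : k) ≠ 0 ∧ c.1 = a.1.1 ∧
      c.2.2.2 = a.2.2)) ∧
    ∀ t, zz hp (D.simple i) (-s) * zz hp b.1 t * zz hp (D.simple i) s =
      (L.map fun a => zz hp a.1.1 (a.2.1 * t ^ a.2.2)).prod := by
  have hi := NPerm.simple_lt hp.inList (lt_rank hp i)
  by_cases hbi : b.1 = D.simple i
  · refine ⟨[(b, 1, 1)], by simp, fun t => ?_⟩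
    rw [hbi, ← zz_add, ← zz_add]
    simp [hbi]
  have hbi' : b.1 ≠ D.neg (D.simple i) := by
    intro h
    have h1 := vec_nonneg hp b i
    rw [h, vec_neg hp hi, vec_simple hp, Pi.neg_apply, sr_self] at h1
    omega
  have hpos : ∀ c ∈ D.commTerms (D.simple i) b.1, D.IsPosRoot c.1 := by
    rintro ⟨u, C, p, q⟩ hu
    obtain ⟨h1, -, -, hp1, hq1, h2⟩ := commTerms_rt hp.checked hu
    rw [isPosRoot_iff hp.checked]
    refine ⟨h1, fun a ha => ?_⟩
    rw [h2]
    have h3 := ((isPosRoot_iff hp.checked _).1 b.2).2 a ha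
    have h4 := ((isPosRoot_iff hp.checked _).1 (psr hp i).2).2 a ha
    have h5 : 0 ≤ rt D (D.simple i) a := h4
    positivity
  classical
  refine ⟨(b, 1, 1) :: ((D.commTerms (D.simple i) b.1).attach.filter fun c => decide ((c.1.2.1 : k) ≠ 0)).map fun c =>
    (⟨c.1.1, hpos c.1 c.2⟩, (c.1.2.1 : k) * (-s) ^ c.1.2.2.1, c.1.2.2.2), ?_, fun t => ?_⟩
  · intro a ha
    rcases List.mem_cons.1 ha with rfl | ha
    · exact ⟨Nat.one_pos, Or.inl rfl⟩
    · obtain ⟨⟨⟨u, C, p, q⟩, hc⟩, hf, rfl⟩ := List.mem_map.1 ha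
      have hf' := (List.mem_filter.1 hf).2
      exact ⟨(commTerms_rt hp.checked hc).2.2.2.2.1, Or.inr ⟨_, hc, of_decide_eq_true hf', rfl, rfl⟩⟩
  · apply Subtype.ext
    have h1 := comm_eq hp hi b.2.1 hbi hbi' s t
    rw [xG_inv] at h1
    have h2 : (((zz hp (D.simple i) (-s) * zz hp b.1 t * zz hp (D.simple i) s : ↥(D.group k))) : GL D.Idx k) =
      xG hp.inList (D.simple i) (-s) * xG hp.inList b.1 t * xG hp.inList (D.simple i) s := rfl
    rw [h2, h1, List.map_cons, List.prod_cons, Subgroup.coe_mul, one_mul, pow_one]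
    congr 1
    rw [List.map_map]
    unfold wordG ChevalleyDatum.commWord
    rw [List.map_map]
    have h4 : ∀ L : List {c // c ∈ D.commTerms (D.simple i) b.1},
        ((((L.filter fun c => decide ((c.1.2.1 : k) ≠ 0)).map
          (fun c => zz hp c.1.1 ((c.1.2.1 : k) * (-s) ^ c.1.2.2.1 * t ^ c.1.2.2.2))).prod : ↥(D.group k)) :
          GL D.Idx k) = ((L.map Subtype.val).map
            (fun c => xG hp.inList c.1 ((c.2.1 : k) * (-s) ^ c.2.2.1 * t ^ c.2.2.2))).prod := by
      intro L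
      induction L with
      | nil => rfl
      | cons c L ih =>
        rw [List.filter_cons]
        by_cases h5 : (c.1.2.1 : k) ≠ 0
        · rw [if_pos (by simpa using h5)]
          simp only [List.map_cons, List.prod_cons]
          rw [Subgroup.coe_mul, ih]
          rfl
        · rw [if_neg (by simpa using h5), ih]
          simp only [List.map_cons, List.prod_cons]
          push Not at h5
          have h6 : xG hp.inList c.1.1 ((c.1.2.1 : k) * (-s) ^ c.1.2.2.1 * t ^ c.1.2.2.2) = 1 := by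
            rw [h5, zero_mul, zero_mul]
            exact congrArg Subtype.val (zz_zero hp c.1.1 (k := k))
          rw [h6, one_mul]
    have h3 : ((((D.commTerms (D.simple i) b.1).attach.filter fun c => decide ((c.1.2.1 : k) ≠ 0)).map
        ((fun a : PR D × k × ℕ => zz hp a.1.1 (a.2.1 * t ^ a.2.2)) ∘ fun c =>
          (⟨c.1.1, hpos c.1 c.2⟩, (c.1.2.1 : k) * (-s) ^ c.1.2.2.1, c.1.2.2.2))).prod : ↥(D.group k)) =
        (((D.commTerms (D.simple i) b.1).attach.filter fun c => decide ((c.1.2.1 : k) ≠ 0)).map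
          (fun c => zz hp c.1.1 ((c.1.2.1 : k) * (-s) ^ c.1.2.2.1 * t ^ c.1.2.2.2))).prod := rfl
    rw [h3, h4, List.attach_map_subtype_val]
    rfl

end cmt

/-! ### `F4` -/

/-- the exponents: `2 ^ m` for the long roots, `2 ^ (m + 1)` for the short roots -/
def qF (m : ℕ) (b : PR chevF4) : ℕ := if chevF4.isLong b.1 = true then 2 ^ m else 2 ^ (m + 1)

theorem qF_pos (m : ℕ) (b : PR chevF4) : 0 < qF m b := by
  unfold qF
  split_ifs <;> positivity

/-- in characteristic two a short root has a long term only with exponent `≥ 2` -/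
def tabOK : Bool := (List.range 4).all fun i => (List.range 48).all fun b =>
  (chevF4.commTerms (chevF4.simple i) b).all fun c =>
    decide (c.2.1 % 2 = 0) || (chevF4.isLong b || (!(chevF4.isLong c.1) || decide (2 ≤ c.2.2.2)))

theorem tab_ok : tabOK = true := by decide +kernel

theorem qF_le {m : ℕ} {i : Fin 4} {b a : PR chevF4} {c : ℕ × ℤ × ℕ × ℕ} {n : ℕ} (hc : c ∈ chevF4.commTerms (chevF4.simple i) b.1)
    (h2 : c.2.1 % 2 ≠ 0) (ha : c.1 = a.1) (hn : c.2.2.2 = n) (hn0 : 0 < n) : qF m b ≤ n * qF m a := by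
  have h := tab_ok
  unfold tabOK at h
  rw [List.all_eq_true] at h
  have h1 := h i.1 (List.mem_range.2 i.2)
  rw [List.all_eq_true] at h1
  have hb : b.1 < 48 := b.2.1
  have h3 := h1 b.1 (List.mem_range.2 hb)
  rw [List.all_eq_true] at h3
  have h4 := h3 c hc
  simp only [Bool.or_eq_true, decide_eq_true_eq, Bool.not_eq_true'] at h4
  rcases h4 with h4 | h4 | h4 | h4
  · exact absurd h4 h2
  · unfold qF
    rw [if_pos h4]
    split_ifs
    · nlinarith [Nat.one_le_two_pow (n := m)]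
    · rw [pow_succ]
      nlinarith [Nat.one_le_two_pow (n := m)]
  · unfold qF
    rw [if_neg (c := chevF4.isLong a.1 = true) (by rw [← ha, h4]; simp)]
    split_ifs
    · rw [pow_succ]
      nlinarith [Nat.one_le_two_pow (n := m)]
    · nlinarith [Nat.one_le_two_pow (n := m + 1)]
  · rw [hn] at h4
    unfold qF
    split_ifs <;> (try rw [pow_succ]) <;> nlinarith [Nat.one_le_two_pow (n := m)]

theorem cmq_F4 (hp : IsType chevF4 4 CoxeterMatrix.F₄) (k : Type u) [Field k] [CharP k 2] (m : ℕ) :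
    Cmq (gdat hp k) (qF m) := by
  intro i b s
  obtain ⟨L, h1, h2⟩ := zz_cmt' hp i b s
  refine ⟨L, fun a ha => ⟨(h1 a ha).1, ?_⟩, fun t => ?_⟩
  · rcases (h1 a ha).2 with h3 | ⟨c, hc, hc0, h4, h5⟩
    · rw [h3]
      simp
    · refine qF_le hc (fun h6 => hc0 ?_) h4 h5 (h1 a ha).1
      have h7 : (2 : ℤ) ∣ c.2.1 := Int.dvd_of_emod_eq_zero h6
      exact_mod_cast (CharP.intCast_eq_zero_iff k 2 c.2.1).2 (by exact_mod_cast h7)
  · show xc hp (sr i) (-s) * zz hp b.1 t * xc hp (sr i) s = _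
    rw [zz_simple, zz_simple]
    exact h2 t

/-- **fundamental functions on `chevF4.group k`, `k` of characteristic two, with a vertex pair and the refined
commutator formula** -/
theorem exists_fdat_F4 (k : Type u) [Field k] [Infinite k] [CharP k 2] :
    ∃ F : FDat (Fin 4) (PR chevF4) k ↥(chevF4.group k), F.toGDat = gdat Nodes.KindF.isType k ∧
      Nonempty (F.Vtx (TT chevF4 k)) ∧ ∀ m, Cmq F.toGDat (qF m) := by
  obtain ⟨F, hF, hV⟩ := exists_fdat Nodes.KindF.isType k ok_F4 (Cfsg.Agent.H887.VX.F4.vtx k)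
  exact ⟨F, hF, hV, fun m => by rw [hF]; exact cmq_F4 _ k m⟩

end Cfsg.Agent.H564.TW
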