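import Cfsg.Agent.H564.TW.Dat
import Cfsg.Agent.H45.UniE.Main

/-!
# Own characteristic of `2F4(q)`: interface (helper564, TEAM U-EXC, S3635)

* `TSys J F S` : the rank one data of a finite group `S` with a split `BN`-pair, arbitrary rank one groups (`SL2(q)`,
  `Sz(q)`), coroot elements `hh j b`, `b ∈ Fˣ`;
* `TSys.TT` : the operators `T_j = ∑ u ∈ X j, u n_j`;
* `TSys.Wt k W` : (O2) every nonzero finite dimensional module has a common eigenvector;
* `TSys.Map` : the homomorphism `φ : S →* G` into the algebraic group with fundamental functions `D : FDat ι Φ k G`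
  (O3); `orb i : J` the orbit of the simple root `i`, `e i` its exponent: `φ (hh j b) = ∏ hh_i (b ^ e i)`, `orb i = j`.

The final theorem (O5) is `H564.TW.fixAll_tw` in `H564/TW/Main.lean`.
-/

set_option autoImplicit false
set_option linter.unusedSectionVars false

namespace Cfsg.Agent.H564.TW

open Cfsg.Agent.H45.UniE Finset

/-- the rank one data of a finite group with a split `BN`-pair -/
structure TSys (J F S : Type*) [Field F] [Group S] where
  /-- `U`, the positive unipotent group -/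
  U : Subgroup S
  /-- `U⁻` -/
  Um : Subgroup S
  /-- the torus -/
  H : Subgroup S
  /-- the positive rank one groups, `X j ≤ U` -/
  X : J → Subgroup S
  /-- the negative rank one groups, `Y j ≤ U⁻` -/
  Y : J → Subgroup S
  /-- the positive complements, `U = X j V j` -/
  V : J → Subgroup S
  /-- the negative complements, `U⁻ = Z j Y j` -/
  Z : J → Subgroup S
  n : J → S
  /-- the coroot elements -/
  hh : J → Fˣ → S
  gen : Subgroup.closure {g | g ∈ Um ∨ g ∈ H ∨ ∃ j, g = n j} = ⊤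
  H_comm : ∀ s ∈ H, ∀ t ∈ H, s * t = t * s
  hh_mem : ∀ j b, hh j b ∈ H
  hh_mul : ∀ j b c, hh j (b * c) = hh j b * hh j c
  H_gen : H ≤ Subgroup.closure {g | ∃ j b, g = hh j b}
  n_hh : ∀ j b, (n j)⁻¹ * hh j b * n j = hh j b⁻¹
  n_sq : ∀ j, n j * n j ∈ H
  X_ne : ∀ j, X j ≠ ⊥
  X_le : ∀ j, X j ≤ U
  Y_le : ∀ j, Y j ≤ Um
  Z_le : ∀ j, Z j ≤ Um
  U_eq : ∀ j, ∀ u ∈ U, ∃ x ∈ X j, ∃ v ∈ V j, u = x * v
  Um_eq : ∀ j, ∀ u ∈ Um, ∃ z ∈ Z j, ∃ y ∈ Y j, u = z * y
  V_le : ∀ j, V j ≤ U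
  X_V : ∀ j, ∀ x ∈ X j, ∀ v ∈ V j, x⁻¹ * v * x ∈ V j
  n_V : ∀ j, ∀ v ∈ V j, (n j)⁻¹ * v * n j ∈ V j
  n_Z : ∀ j, ∀ z ∈ Z j, n j * z * (n j)⁻¹ ∈ Z j
  /-- `n j` conjugates `Y j` to `X j` -/
  n_Y : ∀ j, ∀ y ∈ Y j, n j * y * (n j)⁻¹ ∈ X j
  H_X : ∀ j, ∀ h ∈ H, ∀ x ∈ X j, h * x * h⁻¹ ∈ X j
  H_Um : ∀ h ∈ H, ∀ u ∈ Um, h * u * h⁻¹ ∈ Um
  /-- the rank one relation -/
  rank : ∀ j, ∀ u ∈ X j, u ≠ 1 → ∃ y ∈ Y j, ∃ b : Fˣ, ∃ x ∈ X j, u * n j = y * hh j b * x

namespace TSys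

variable {J F S : Type*} [Field F] [Group S] (E : TSys J F S)

section

variable [Finite S] {k W : Type*} [Field k] [AddCommGroup W] [Module k W]

/-- the operator `T_j = ∑ u ∈ X j, u n_j` -/
noncomputable def Tj (ρ : S →* Module.End k W) (j : J) (v : W) : W :=
  ∑ u ∈ (Set.toFinite (E.X j : Set S)).toFinset, ρ (u * E.n j) v

variable (k W) in
/-- **(O2)** every nonzero finite dimensional module has a common eigenvector -/
def Wt : Prop := ∀ (ρ : S →* Module.End k W), FiniteDimensional k W → Nontrivial W →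
    ∃ v : W, v ≠ 0 ∧ (∀ u ∈ E.U, ρ u v = v) ∧ (∀ h ∈ E.H, ∃ c : k, ρ h v = c • v) ∧
      ∀ j, ∃ μ : k, E.Tj ρ j v = μ • v

end

/-- the homomorphism into the algebraic group **(O3)** -/
structure Map {ι Φ k G : Type*} [Field k] [Algebra F k] [Group G] [DecidableEq ι] [DecidableEq J] (D : FDat ι Φ k G)
    (φ : S →* G) (orb : ι → J) (e : ι → ℕ) : Prop where
  U : ∀ u ∈ E.U, φ u ∈ D.U
  Um : ∀ u ∈ E.Um, φ u ∈ D.Um
  H : ∀ h ∈ E.H, φ h ∈ D.T
  hh : ∀ i j b, D.Δ i (φ (E.hh j b)) = if orb i = j then algebraMap F k b ^ e i else 1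
  n : ∀ i j, D.Δ i (φ (E.n j)) = if orb i = j then 0 else 1
  e_pos : ∀ i, 0 < e i
  τ : ∀ g ∈ φ.range, D.τ g ∈ φ.range

end TSys

/-! ### the values of the fundamental functions on `n j` -/

section val

variable {ι Φ k G : Type*} [Field k] [Infinite k] [Group G] [DecidableEq ι] [Fintype ι] (D : FDat ι Φ k G)

/-- `Δ i` is invariant under the negative simple root elements `y j`, `j ≠ i`, on the right -/
theorem Δ_y_right {i j : ι} (h : j ≠ i) (g : G) (s : k) : D.Δ i (g * D.y j s) = D.Δ i g := by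
  obtain ⟨P, hP, hP'⟩ := D.cc_deg_y (Pi.single i 1) j g
  rw [Pi.single_eq_of_ne h, Nat.le_zero] at hP
  have hcc : ∀ g, D.cc (Pi.single i 1) g = D.Δ i g := by
    intro g
    unfold FDat.cc
    rw [Finset.prod_eq_single i]
    · rw [Pi.single_eq_same, pow_one]
    · intro l _ hl
      rw [Pi.single_eq_of_ne hl, pow_zero]
    · intro h
      exact absurd (mem_univ _) h
  simp only [hcc] at hP'
  have h0 := hP' 0
  rw [D.y_zero, mul_one] at h0
  rw [hP', h0, Polynomial.eq_C_of_natDegree_eq_zero hP, Polynomial.eval_C, Polynomial.eval_C]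

/-- `Δ i` on the group generated by the simple root elements of the other nodes -/
theorem Δ_one_of {i : ι} {A : ι → Prop} (hA : ∀ j, A j → j ≠ i) {g : G}
    (hg : g ∈ Subgroup.closure {g | ∃ j s, A j ∧ (g = D.x j s ∨ g = D.y j s)}) (g' : G) :
    D.Δ i (g' * g) = D.Δ i g' := by
  induction hg using Subgroup.closure_induction generalizing g' with
  | mem g hg =>
    obtain ⟨j, s, hj, rfl | rfl⟩ := hg
    · rw [D.Δ_x]
    · exact Δ_y_right D (hA j hj) g' s
  | one => rw [mul_one]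
  | mul a b _ _ h1 h2 => rw [← mul_assoc, h2, h1]
  | inv a _ h1 => rw [← h1 (g' * a⁻¹), inv_mul_cancel_right]

/-- `Δ i` vanishes on an element which inverts the `i`-th coroot -/
theorem Δ_zero_of {i : ι} {w : G} (hw : ∀ c : kˣ, w⁻¹ * D.hh i c * w = D.hh i c⁻¹) : D.Δ i w = 0 := by
  by_contra h0
  have h1 : ∀ c : kˣ, (c : k) = ((c⁻¹ : kˣ) : k) := by
    intro c
    have h2 : D.hh i c * w = w * D.hh i c⁻¹ := by rw [← hw c]; group
    have h3 := congrArg (D.Δ i) h2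
    rw [D.Δ_T' i (D.hh_mem _ _), D.Δ_T i _ (D.hh_mem _ _), D.Δ_hh, D.Δ_hh, if_pos rfl, if_pos rfl] at h3
    exact mul_right_cancel₀ h0 h3
  have h2 : ∀ s ∈ ({(0 : k)}ᶜ : Set k), (Polynomial.X ^ 2 - 1 : Polynomial k).eval s = 0 := by
    intro s hs
    have hs0 : s ≠ 0 := hs
    have h3 := h1 (Units.mk0 s hs0)
    rw [Units.val_inv_eq_inv_val, Units.val_mk0] at h3
    simp only [Polynomial.eval_sub, Polynomial.eval_pow, Polynomial.eval_X, Polynomial.eval_one]
    have h4 : s ^ 2 = 1 := by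
      rw [sq]
      nth_rw 2 [h3]
      exact mul_inv_cancel₀ hs0
    rw [h4, sub_self]
  have h3 : (Polynomial.X ^ 2 - 1 : Polynomial k) = 0 := by
    apply Polynomial.eq_zero_of_infinite_isRoot
    exact Set.Infinite.mono (fun s hs => h2 s hs) (Set.finite_singleton (0 : k)).infinite_compl
  have h4 := congrArg (Polynomial.eval 0) h3
  simp at h4

end val

end Cfsg.Agent.H564.TW
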