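import Cfsg.Agent.H564.TW.Sys

/-!
# Own characteristic of twisted groups in characteristic two: final assembly (helper564)

* `Hyp` : the hypotheses on the system, the homomorphism and the exponents;
* `exists_fix_tw` : modules over an algebraically closed field;
* `fixAll_tw` : nonzero finite modules over `ZMod 2`.
-/

set_option autoImplicit false
set_option linter.unusedSectionVars false
set_option linter.unusedSimpArgs false

namespace Cfsg.Agent.H564.TW

open Finset Polynomial Cfsg.Agent.H45.Uni Cfsg.Agent.H45.UniE TSys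

/-- the hypotheses -/
structure Hyp {J F S ι Φ k G : Type*} [Field F] [Fintype F] [Group S] [Finite S] (E : TSys J F S) [Field k]
    [Algebra F k] [Group G] [DecidableEq ι] [DecidableEq J] [Fintype ι] [Infinite k] (D : FDat ι Φ k G) (φ : S →* G)
    (orb : ι → J) (e : ι → ℕ) (qq : Φ → ℕ) : Prop where
  map : E.Map D φ orb e
  Up : IsPGroup 2 E.U
  Um : IsPGroup 2 E.Um
  qq_pos : ∀ b, 0 < qq b
  cmq : Cmq D.toGDat qq
  low : ∀ (l : ι → ℕ) (hl : ∀ i, l i < qq (D.zi i)), ∀ f ∈ (datQ D qq l hl qq_pos cmq).L,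
    (∀ u ∈ E.U.map φ, ∀ g, f (g * u) = f g) → ∀ n, (∀ m < n, (datQ D qq l hl qq_pos cmq).H m f = 0) →
      (datQ D qq l hl qq_pos cmq).H n f ∈ (datQ D qq l hl qq_pos cmq).K
  lam : ∀ a : J → ℕ, (∀ j, a j < Fintype.card F) → ∃ l : ι → ℕ, (∀ i, l i < qq (D.zi i)) ∧ ∀ j, wt orb e l j = a j

section main

variable {J F S ι Φ k G : Type*} [Field F] [Fintype F] [Group S] [Finite S] {E : TSys J F S} [Field k]
  [Algebra F k] [Group G] [DecidableEq ι] [DecidableEq J] [Fintype ι] [Infinite k] {D : FDat ι Φ k G} {φ : S →* G}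
  {orb : ι → J} {e : ι → ℕ} {qq : Φ → ℕ}

theorem two_dvd (hU : IsPGroup 2 E.U) (j : J) : 2 ∣ Nat.card (E.X j) := by
  have h1 : IsPGroup 2 (E.X j) := hU.to_le (E.X_le j)
  obtain ⟨n, hn⟩ := IsPGroup.iff_card.1 h1
  rw [hn]
  apply dvd_pow_self
  rintro rfl
  rw [pow_zero] at hn
  exact E.X_ne j ((Subgroup.card_eq_one).1 hn)

/-- **`T_j` acts on the function `g ↦ D.cc l (φ g)` by a constant** -/
theorem Hyp.Tj_c (h : Hyp E D φ orb e qq) [CharP k 2] {l : ι → ℕ} (hl : ∀ i, l i < qq (D.zi i)) (j : J) :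
    E.Tj (RRep (k := k) (G := S)) j (fun g => D.cc l (φ g)) =
      ((if wt orb e l j = 0 then 1 else 0) + E.sg k (wt orb e l) j) • (fun g => D.cc l (φ g)) := by
  classical
  set D' := datQ D qq l hl h.qq_pos h.cmq with hD'
  have hc' : D'.c = D.cc l := rfl
  set f : G → k := ∑ u ∈ E.XF j, RR (φ (u * E.n j)) (D.cc l) with hf
  have hfL : f ∈ D'.L := Submodule.sum_mem _ fun u _ => D'.RR_mem _ D'.c_mem
  have hfa : ∀ g, f g = ∑ u ∈ E.XF j, D.cc l (g * φ (u * E.n j)) := by
    intro g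
    rw [hf, Finset.sum_apply]
    rfl
  have hcP : ∀ u ∈ E.U.map φ, ∀ g, D'.c (g * u) = D'.c g := by
    rintro _ ⟨u, hu, rfl⟩ g
    exact cc_U D l (h.map.U u hu) g
  have hfix : ∀ u ∈ E.U.map φ, ∀ g, f (g * u) = f g := by
    rintro _ ⟨w, hw, rfl⟩ g
    obtain ⟨x, hx, v, hv, rfl⟩ := E.U_eq j w hw
    rw [hfa, hfa]
    refine Finset.sum_bij' (fun u _ => x * u) (fun u _ => x⁻¹ * u)
      (fun u hu => E.mem_XF.2 (mul_mem hx (E.mem_XF.1 hu))) (fun u hu => E.mem_XF.2 (mul_mem (inv_mem hx) (E.mem_XF.1 hu)))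
      (fun u _ => by group) (fun u _ => by group) fun u hu => ?_
    have h1 : (E.n j)⁻¹ * (u⁻¹ * v * u) * E.n j ∈ E.V j := E.n_V j _ (E.X_V j u (E.mem_XF.1 hu) v hv)
    have e1 : x * v * (u * E.n j) = x * u * E.n j * ((E.n j)⁻¹ * (u⁻¹ * v * u) * E.n j) := by group
    rw [mul_assoc g, ← map_mul, e1, map_mul, ← mul_assoc, cc_U D l (h.map.U _ (E.V_le j h1))]
  obtain ⟨μ, hμ⟩ := D'.fix_le hcP (h.low l hl) hfL hfix
  have hμ1 : μ = (if wt orb e l j = 0 then 1 else 0) + E.sg k (wt orb e l) j := by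
    have h1 := congrFun hμ 1
    rw [Pi.smul_apply, hc', D.cc_one, smul_eq_mul, mul_one, hfa] at h1
    rw [← h1, ← Finset.add_sum_erase _ _ (E.mem_XF.2 (one_mem (E.X j)))]
    simp only [one_mul]
    rw [h.map.cc_n]
    congr 1
    unfold sg
    refine Finset.sum_congr rfl fun u hu => ?_
    exact h.map.cc_un l (E.mem_XF.1 (Finset.mem_of_mem_erase hu)) (Finset.ne_of_mem_erase hu)
  rw [← hμ1]
  funext g
  have h2 := congrFun hμ (φ g)
  rw [hfa] at h2
  have h3 : E.Tj (RRep (k := k) (G := S)) j (fun g => D.cc l (φ g)) g =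
      ∑ u ∈ E.XF j, D.cc l (φ g * φ (u * E.n j)) := by
    rw [Tj_def, Finset.sum_apply]
    refine Finset.sum_congr rfl fun u _ => ?_
    show D.cc l (φ (g * (u * E.n j))) = _
    rw [map_mul]
  rw [h3, h2]
  rfl

/-- **the choice of the weight** -/
theorem Hyp.exists_weight (h : Hyp E D φ orb e qq) [CharP k 2] {W : Type*} [AddCommGroup W] [Module k W]
    (hwt : E.Wt k W) (ρ : S →* Module.End k W) (hfd : FiniteDimensional k W) (hnt : Nontrivial W) :
    ∃ (l : ι → ℕ) (v : W), (∀ i, l i < qq (D.zi i)) ∧ v ≠ 0 ∧ E.IsW ρ (wt orb e l) v ∧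
      ∀ j, E.Tj ρ j v = ((if wt orb e l j = 0 then 1 else 0) + E.sg k (wt orb e l) j) • v := by
  classical
  have hmul : ∀ (a b : S) (x : W), ρ (a * b) x = ρ a (ρ b x) := fun a b x => by rw [map_mul]; rfl
  obtain ⟨v, hv, hfix, hH, hT⟩ := hwt ρ hfd hnt
  have hinj : ∀ c d : k, c • v = d • v → c = d := fun c d e => smul_left_injective k hv e
  choose μ hμ using hT
  -- the characters
  have hχ : ∀ j, ∃ a < Fintype.card F - 1, ∀ b : Fˣ, ρ (E.hh j b) v = algebraMap F k (b : F) ^ a • v := by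
    intro j
    choose χ0 hχ0 using fun b : Fˣ => hH _ (E.hh_mem j b)
    let χ1 : Fˣ →* k :=
      { toFun := χ0
        map_one' := by
          apply hinj
          rw [← hχ0, E.hh_one, map_one, one_smul]
          rfl
        map_mul' := by
          intro b c
          apply hinj
          rw [← hχ0, E.hh_mul, hmul, hχ0, map_smul, hχ0, smul_smul, mul_comm] }
    obtain ⟨a, ha, ha'⟩ := Cfsg.Agent.H421.Uni.exists_pow (k := k) χ1.toHomUnits
    exact ⟨a, ha, fun b => by rw [hχ0, ← ha']; rfl⟩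
  choose a0 ha0 ha0' using hχ
  have hq : 1 < Fintype.card F := Fintype.one_lt_card
  obtain ⟨l0, hl0, hl0'⟩ := h.lam a0 fun j => (ha0 j).trans (by omega)
  have hl0'' : wt orb e l0 = a0 := funext hl0'
  have hW0 : E.IsW ρ a0 v := ⟨hfix, ha0'⟩
  have hsq := fun j => hW0.sq (p := 2) hv (two_dvd h.Up j) (hμ j)
  let a : J → ℕ := fun j => if a0 j = 0 ∧ μ j ≠ 0 then Fintype.card F - 1 else a0 j
  have hpow : ∀ j (b : Fˣ), algebraMap F k (b : F) ^ a j = algebraMap F k (b : F) ^ a0 j := by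
    intro j b
    show algebraMap F k (b : F) ^ (if a0 j = 0 ∧ μ j ≠ 0 then Fintype.card F - 1 else a0 j) = _
    split_ifs with h1
    · rw [h1.1, pow_zero, ← map_pow, FiniteField.pow_card_sub_one_eq_one _ b.ne_zero, map_one]
    · rfl
  obtain ⟨l, hl, hl'⟩ := h.lam a fun j => by
    show (if a0 j = 0 ∧ μ j ≠ 0 then Fintype.card F - 1 else a0 j) < _
    have := ha0 j
    split_ifs <;> omega
  have hl'' : wt orb e l = a := funext hl'
  refine ⟨l, v, hl, hv, ⟨hfix, fun j b => by rw [ha0', hl'', hpow]⟩, fun j => ?_⟩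
  rw [hμ, hl'']
  congr 1
  have hsg : E.sg k a j = E.sg k a0 j := by
    unfold sg
    exact Finset.sum_congr rfl fun u _ => hpow j _
  rw [hsg]
  by_cases h0 : a0 j = 0
  · have h1 : E.sg k a0 j = -1 := sg_one (p := 2) (fun b => by rw [h0, pow_zero]) (two_dvd h.Up j)
    have h2 := hsq j
    rw [h1] at h2
    by_cases h3 : μ j = 0
    · have h4 : a j = 0 := by
        show (if a0 j = 0 ∧ μ j ≠ 0 then Fintype.card F - 1 else a0 j) = 0
        rw [if_neg (fun h => h.2 h3), h0]
      rw [h4, if_pos rfl, h1, h3]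
      ring
    · have h4 : a j ≠ 0 := by
        show (if a0 j = 0 ∧ μ j ≠ 0 then Fintype.card F - 1 else a0 j) ≠ 0
        rw [if_pos ⟨h0, h3⟩]
        omega
      rw [if_neg h4, h1, zero_add]
      exact mul_right_cancel₀ h3 h2
  · have h1 : ∃ b : Fˣ, algebraMap F k (b : F) ^ wt orb e l0 j ≠ 1 := by
      by_contra hcon
      push Not at hcon
      rw [hl0''] at hcon
      obtain ⟨g, hg⟩ := IsCyclic.exists_generator (α := Fˣ)
      have h2 : g ^ a0 j = 1 := by
        apply Units.ext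
        rw [Units.val_pow_eq_pow_val, Units.val_one]
        apply (algebraMap F k).injective
        rw [map_pow, map_one]
        exact hcon g
      have h3 := orderOf_dvd_of_pow_eq_one h2
      have h4 : orderOf g = Fintype.card F - 1 := by
        rw [orderOf_eq_card_of_forall_mem_zpowers hg, Nat.card_eq_fintype_card, Fintype.card_units]
      have h5 := Nat.le_of_dvd (Nat.pos_of_ne_zero h0) h3
      have := ha0 j
      omega
    obtain ⟨b, hb⟩ := h1
    have h2 := h.map.sg_zero l0 hb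
    rw [hl0''] at h2
    have h3 := hsq j
    rw [h2, zero_mul] at h3
    have h4 : a j ≠ 0 := by
      show (if a0 j = 0 ∧ μ j ≠ 0 then Fintype.card F - 1 else a0 j) ≠ 0
      rw [if_neg (fun h => h0 h.1)]
      exact h0
    rw [if_neg h4, h2, mul_self_eq_zero.1 h3, add_zero]

/-- the pair `(v, c)` -/
theorem Hyp.gen (h : Hyp E D φ orb e qq) [CharP k 2] {W : Type*} [AddCommGroup W] [Module k W]
    (ρ : S →* Module.End k W) {l : ι → ℕ} (hl : ∀ i, l i < qq (D.zi i)) {v : W} (hv : E.IsW ρ (wt orb e l) v)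
    (hT : ∀ j, E.Tj ρ j v = ((if wt orb e l j = 0 then 1 else 0) + E.sg k (wt orb e l) j) • v) (g : S) :
    ((ρ g v, RR g (fun g : S => D.cc l (φ g))) : W × (S → k)) ∈ Submodule.span k
      {x : W × (S → k) | ∃ u ∈ E.Um, x = (ρ u v, RR u (fun g : S => D.cc l (φ g)))} := by
  set c : S → k := fun g : S => D.cc l (φ g) with hc
  have hcW := h.map.isW (k := k) l
  have e1 : ∀ g, prodRep ρ (RRep (k := k) (G := S)) g (v, c) = (ρ g v, RR g c) := fun g => rfl
  have hW : E.IsW (prodRep ρ (RRep (k := k) (G := S))) (wt orb e l) (v, c) := by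
    refine ⟨fun u hu => ?_, fun j b => ?_⟩
    · rw [e1, hv.fix u hu]
      exact congrArg (Prod.mk v) (hcW.fix u hu)
    · rw [e1, hv.tor, Prod.smul_mk]
      exact congrArg (Prod.mk _) (hcW.tor j b)
  have hTj : ∀ j, E.Tj (prodRep ρ (RRep (k := k) (G := S))) j (v, c) =
      ((if wt orb e l j = 0 then 1 else 0) + E.sg k (wt orb e l) j) • (v, c) := by
    intro j
    have h1 := h.Tj_c hl j
    rw [Prod.smul_mk, ← hT j, ← h1, Tj_def, Tj_def, Tj_def]
    simp only [e1]
    apply Prod.ext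
    · rw [Prod.fst_sum]
    · rw [Prod.snd_sum]
      rfl
  have h2 := E.neg (prodRep ρ (RRep (k := k) (G := S))) (w := (v, c)) hW.fix (fun t ht => hW.H ht)
    (fun j => hW.n_mem (hTj j)) g
  simpa only [e1] using h2

/-- **the relations on the algebraic group** -/
theorem Hyp.relations (h : Hyp E D φ orb e qq) [CharP k 2] {W : Type*} [AddCommGroup W] [Module k W]
    (ρ : S →* Module.End k W) {l : ι → ℕ} (hl : ∀ i, l i < qq (D.zi i)) {v : W} (hv0 : v ≠ 0)
    (hv : E.IsW ρ (wt orb e l) v)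
    (hT : ∀ j, E.Tj ρ j v = ((if wt orb e l j = 0 then 1 else 0) + E.sg k (wt orb e l) j) • v)
    {x : S} {r : ℕ} (hsum : ∀ w : W, ∑ i ∈ range r, ρ (x ^ i) w = 0) (h' g : G) :
    ∑ i ∈ range r, D.cc l (h' * φ x ^ i * g) = 0 := by
  classical
  have hrel : ∀ g h : S, ∑ i ∈ range r, D.cc l (φ (h * (x ^ i * g))) = 0 := by
    intro g h1
    have h6 := ann (p := 2) ρ hv0 (fun g : S => D.cc l (φ g)) h.Um (fun u hu => ?_)
      (h.gen ρ hl hv hT) (range r) (fun _ => 1) (fun i => x ^ i * g) ?_ h1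
    · simpa only [one_mul] using h6
    · have h7 := cc_Um D l (h.map.Um u hu) 1
      rw [mul_one, D.cc_one] at h7
      exact h7
    · simp only [one_smul]
      have e : ∀ i, ρ (x ^ i * g) v = ρ (x ^ i) (ρ g v) := by
        intro i
        rw [map_mul]; rfl
      simp only [e]
      exact hsum _
  let P : Subgroup G := E.U.map φ
  have hPfin : Finite P := Set.Finite.image φ (Set.toFinite (E.U : Set S))
  have hP : IsPGroup 2 P := h.Up.map _
  have hPS : P ≤ φ.range := by
    rintro _ ⟨g, -, rfl⟩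
    exact ⟨g, rfl⟩
  have hc : ∀ u ∈ P, ∀ g, D.cc l (g * u) = D.cc l g := by
    rintro _ ⟨u, hu, rfl⟩ g
    exact cc_U D l (h.map.U u hu) g
  exact (datQ D qq l hl h.qq_pos h.cmq).transfer (p := 2) (S := φ.range) hP hPS hc (h.low l hl)
    (fun a => D.cc_τ l a) h.map.τ (range r) (fun i => φ x ^ i) (by
      rintro _ ⟨h1, rfl⟩ _ ⟨g, rfl⟩
      have h6 := hrel g h1
      rw [← h6]
      refine Finset.sum_congr rfl fun i _ => ?_
      show D.cc l (φ h1 * φ x ^ i * φ g) = _
      rw [← map_pow, ← map_mul, ← map_mul, mul_assoc]) h' g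

/-- modules over an algebraically closed field -/
theorem Hyp.exists_fix (h : Hyp E D φ orb e qq) [CharP k 2] {W : Type*} [AddCommGroup W] [Module k W]
    (hwt : E.Wt k W) (ρ : S →* Module.End k W) [FiniteDimensional k W] [Nontrivial W] {T' : Subgroup G}
    (V : D.Vtx T') (x : S) (hx : (orderOf x).Coprime 2) {g0 t0 : G} (ht0 : t0 ∈ T') (hg0 : φ x = g0 * t0 * g0⁻¹) :
    ∃ v : W, v ≠ 0 ∧ ρ x v = v := by
  classical
  by_contra hcon
  push Not at hcon
  obtain ⟨l, v, hl, hv0, hv, hT⟩ := h.exists_weight hwt ρ inferInstance inferInstance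
  set r := orderOf x with hr
  have hrk : (r : k) ≠ 0 := by
    intro h
    rw [CharP.cast_eq_zero_iff k 2] at h
    have h6 := hx.symm
    rw [Nat.prime_two.coprime_iff_not_dvd] at h6
    exact h6 h
  have hsum : ∀ w : W, ∑ i ∈ range r, ρ (x ^ i) w = 0 := by
    intro w
    by_contra hne
    apply hcon _ hne
    rw [map_sum]
    have e : ∀ i, ρ x (ρ (x ^ i) w) = ρ (x ^ (i + 1)) w := by
      intro i
      rw [pow_succ', map_mul]; rfl
    simp only [e]
    have h6 := Finset.sum_range_succ (fun i => ρ (x ^ i) w) r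
    have h7 := Finset.sum_range_succ' (fun i => ρ (x ^ i) w) r
    rw [h6] at h7
    have h8 : x ^ r = 1 := pow_orderOf_eq_one x
    simp only [h8, pow_zero] at h7
    exact (add_right_cancel h7).symm
  have hrel := h.relations ρ hl hv0 hv hT hsum
  obtain ⟨g1, h1, lam, m, C, hC, hvt⟩ := FDat.Vtx.at D V l
  choose P hP hP' using fun i : ℕ => hvt (t0 ^ i) (T'.pow_mem ht0 i)
  have hpow : ∀ i, φ x ^ i = g0 * t0 ^ i * g0⁻¹ := by
    intro i
    rw [hg0, conj_pow]
  have hsum0 : ∑ i ∈ range r, P i = 0 := by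
    apply Polynomial.eq_of_infinite_eval_eq
    apply Set.Infinite.mono (s := ({(0 : k)}ᶜ : Set k))
    · intro s hs
      have hs' : s ≠ 0 := hs
      show eval s _ = eval s 0
      rw [eval_finsetSum, eval_zero]
      have h2 := hrel (h1 * lam (Units.mk0 s hs') * g0⁻¹) (g0 * g1)
      have h3 : ∀ i ∈ range r, (P i).eval s = (((Units.mk0 s hs') ^ m : kˣ) : k) *
          D.cc l (h1 * lam (Units.mk0 s hs') * g0⁻¹ * φ x ^ i * (g0 * g1)) := by
        intro i _
        have h4 := hP' i (Units.mk0 s hs')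
        rw [Units.val_mk0] at h4
        rw [← h4, hpow]
        congr 2
        group
      rw [Finset.sum_congr rfl h3, ← Finset.mul_sum, h2, mul_zero]
    · exact (Set.finite_singleton (0 : k)).infinite_compl
  have h5 := congrArg (fun P : k[X] => P.coeff 0) hsum0
  simp only [finsetSum_coeff, hP, coeff_zero, sum_const, card_range, nsmul_eq_mul] at h5
  exact (mul_ne_zero hrk hC) h5

end main

section final

open TensorProduct

universe u v

/-- **own characteristic for twisted groups in characteristic two** -/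
theorem fixAll_tw {J F S ι Φ G : Type*} {k : Type v} [Field F] [Fintype F] [Group S] [Finite S] {E : TSys J F S}
    [Field k] [Algebra F k] [Group G] [DecidableEq ι] [DecidableEq J] [Fintype ι] [Infinite k] {D : FDat ι Φ k G}
    {φ : S →* G} {orb : ι → J} {e : ι → ℕ} {qq : Φ → ℕ} [CharP k 2] (h : Hyp E D φ orb e qq)
    (hwt : ∀ (W : Type (max u v)) [AddCommGroup W] [Module k W], E.Wt k W) {T' : Subgroup G} (X : D.Vtx T')
    (x : S) (hx : (orderOf x).Coprime 2) {g0 t0 : G} (ht0 : t0 ∈ T') (hg0 : φ x = g0 * t0 * g0⁻¹) :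
    H425.KFix.FixAll.{u} 2 x := by
  intro V _ _ _ _ ρ
  classical
  let _ : Algebra (ZMod 2) k := ZMod.algebra k 2
  have : Module.Finite (ZMod 2) V := Module.Finite.of_finite
  let ρk : S →* Module.End k (k ⊗[ZMod 2] V) :=
    { toFun := fun g => (ρ g).toLinearMap.baseChange k
      map_one' := by
        rw [map_one]
        exact LinearMap.baseChange_id
      map_mul' := fun g h => by
        rw [map_mul]
        exact LinearMap.baseChange_comp _ _ }
  have hnt : Nontrivial (k ⊗[ZMod 2] V) := by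
    obtain ⟨w, hw⟩ := exists_ne (0 : V)
    have hinj : Function.Injective (fun v : V => (1 : k) ⊗ₜ[ZMod 2] v) := by
      have h1 : Function.Injective (LinearMap.rTensor V (Algebra.linearMap (ZMod 2) k)) :=
        Module.Flat.rTensor_preserves_injective_linearMap _ (algebraMap (ZMod 2) k).injective
      intro a b hab
      have h2 : LinearMap.rTensor V (Algebra.linearMap (ZMod 2) k) ((TensorProduct.lid (ZMod 2) V).symm a) =
          LinearMap.rTensor V (Algebra.linearMap (ZMod 2) k) ((TensorProduct.lid (ZMod 2) V).symm b) := by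
        rw [TensorProduct.lid_symm_apply, TensorProduct.lid_symm_apply, LinearMap.rTensor_tmul,
          LinearMap.rTensor_tmul, Algebra.linearMap_apply, map_one]
        exact hab
      exact (TensorProduct.lid (ZMod 2) V).symm.injective (h1 h2)
    refine ⟨⟨(1 : k) ⊗ₜ[ZMod 2] w, 0, fun h => hw ?_⟩⟩
    apply hinj
    show (1 : k) ⊗ₜ[ZMod 2] w = (1 : k) ⊗ₜ[ZMod 2] (0 : V)
    rw [h, TensorProduct.tmul_zero]
  obtain ⟨v, hv0, hv⟩ := h.exists_fix (hwt _) ρk X x hx ht0 hg0
  by_contra hcon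
  push Not at hcon
  have hinj : Function.Injective ((ρ x).toLinearMap - LinearMap.id : V →ₗ[ZMod 2] V) := by
    rw [injective_iff_map_eq_zero]
    intro w hw
    by_contra hw0
    exact hcon w hw0 (sub_eq_zero.1 hw)
  have hinj2 : Function.Injective (LinearMap.lTensor k ((ρ x).toLinearMap - LinearMap.id : V →ₗ[ZMod 2] V)) :=
    Module.Flat.lTensor_preserves_injective_linearMap _ hinj
  apply hv0
  apply hinj2
  rw [LinearMap.lTensor_sub, LinearMap.sub_apply]
  have h4 : LinearMap.lTensor k (ρ x).toLinearMap v = v := hv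
  rw [h4, LinearMap.lTensor_id]
  simp

end final

end Cfsg.Agent.H564.TW
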