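import Cfsg.Agent.H564.TW.Def
import Cfsg.Agent.H421.Uni.RkOne

/-!
# Own characteristic of twisted groups: the finite group (helper564)

* `TSys.neg` : a `U`-fixed `H`-eigenvector `w` with `n_j w ∈ span (Y_j w)` generates under `U⁻` all that it generates;
* `TSys.IsW ρ a w` : `U`-fixed, weight `a`; `IsW.act`, `n_act`, `sq`;
* the function `g ↦ D.cc l (φ g)` has weight `∑ e_i l_i`; `T_j` acts on it by a constant.
-/

set_option autoImplicit false
set_option linter.unusedSectionVars false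

namespace Cfsg.Agent.H564.TW

open Finset Cfsg.Agent.H45.Uni Cfsg.Agent.H45.UniE

namespace TSys

variable {J F S : Type*} [Field F] [Group S] (E : TSys J F S)

theorem hh_one (j : J) : E.hh j 1 = 1 := by
  have h := E.hh_mul j 1 1
  rw [one_mul] at h
  exact (mul_eq_left.1 h.symm)

theorem hh_inv (j : J) (b : Fˣ) : (E.hh j b)⁻¹ = E.hh j b⁻¹ := by
  rw [inv_eq_iff_mul_eq_one, ← E.hh_mul, mul_inv_cancel, hh_one]

/-- the rank one decomposition, chosen -/
theorem exists_rank (j : J) : ∃ r : S → S × Fˣ × S, ∀ u ∈ E.X j, u ≠ 1 →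
    (r u).1 ∈ E.Y j ∧ (r u).2.2 ∈ E.X j ∧ u * E.n j = (r u).1 * E.hh j (r u).2.1 * (r u).2.2 := by
  classical
  refine ⟨fun u => if h : u ∈ E.X j ∧ u ≠ 1 then
    ⟨(E.rank j u h.1 h.2).choose, (E.rank j u h.1 h.2).choose_spec.2.choose,
      (E.rank j u h.1 h.2).choose_spec.2.choose_spec.choose⟩ else ⟨1, 1, 1⟩, fun u hu h1 => ?_⟩
  have h : u ∈ E.X j ∧ u ≠ 1 := ⟨hu, h1⟩
  simp only [dif_pos h]
  exact ⟨(E.rank j u h.1 h.2).choose_spec.1, (E.rank j u h.1 h.2).choose_spec.2.choose_spec.choose_spec.1,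
    (E.rank j u h.1 h.2).choose_spec.2.choose_spec.choose_spec.2⟩

/-- the rank one decomposition `u n_j = y h x` -/
noncomputable def rr (j : J) : S → S × Fˣ × S := (E.exists_rank j).choose

theorem rr_spec {j : J} {u : S} (hu : u ∈ E.X j) (h1 : u ≠ 1) :
    (E.rr j u).1 ∈ E.Y j ∧ (E.rr j u).2.2 ∈ E.X j ∧ u * E.n j = (E.rr j u).1 * E.hh j (E.rr j u).2.1 * (E.rr j u).2.2 :=
  (E.exists_rank j).choose_spec u hu h1

section mod

variable {k W : Type*} [Field k] [AddCommGroup W] [Module k W]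

/-- **(Neg)** -/
theorem neg (ρ : S →* Module.End k W) {w : W} (hU : ∀ u ∈ E.U, ρ u w = w) (hH : ∀ h ∈ E.H, ∃ c : k, ρ h w = c • w)
    (hn : ∀ j, ρ (E.n j) w ∈ Submodule.span k {x | ∃ y ∈ E.Y j, x = ρ y w}) (g : S) :
    ρ g w ∈ Submodule.span k {x | ∃ u ∈ E.Um, x = ρ u w} := by
  set M := Submodule.span k {x | ∃ u ∈ E.Um, x = ρ u w} with hM
  have hmul : ∀ (a b : S) (x : W), ρ (a * b) x = ρ a (ρ b x) := fun a b x => by rw [map_mul]; rfl
  have hw : w ∈ M := Submodule.subset_span ⟨1, one_mem _, by rw [map_one]; rfl⟩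
  have key : ∀ g : S, (∀ u ∈ E.Um, ρ g (ρ u w) ∈ M) → ∀ x ∈ M, ρ g x ∈ M := by
    intro g hg x hx
    refine Submodule.span_induction (p := fun x _ => ρ g x ∈ M) ?_ ?_ ?_ ?_ hx
    · rintro _ ⟨u, hu, rfl⟩
      exact hg u hu
    · rw [map_zero]; exact M.zero_mem
    · intro x y _ _ h1 h2; rw [map_add]; exact M.add_mem h1 h2
    · intro a x _ h1; rw [map_smul]; exact M.smul_mem a h1
  have hUm : ∀ g ∈ E.Um, ∀ x ∈ M, ρ g x ∈ M := fun g hg => key g fun u hu => by
    rw [← hmul]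
    exact Submodule.subset_span ⟨g * u, mul_mem hg hu, rfl⟩
  have hHm : ∀ g ∈ E.H, ∀ x ∈ M, ρ g x ∈ M := fun g hg => key g fun u hu => by
    obtain ⟨c, hc⟩ := hH g hg
    have e : g * u = g * u * g⁻¹ * g := by group
    rw [← hmul, e, hmul, hc, map_smul]
    exact M.smul_mem _ (Submodule.subset_span ⟨_, E.H_Um g hg u hu, rfl⟩)
  have hnm : ∀ j, ∀ x ∈ M, ρ (E.n j) x ∈ M := fun j => key _ fun u hu => by
    obtain ⟨z, hz, y, hy, rfl⟩ := E.Um_eq j u hu
    have e : E.n j * (z * y) = E.n j * z * (E.n j)⁻¹ * (E.n j * y) := by group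
    rw [← hmul, e, hmul]
    refine hUm _ (E.Z_le j (E.n_Z j z hz)) _ ?_
    by_cases hy1 : y = 1
    · rw [hy1, mul_one]
      refine Submodule.span_mono ?_ (hn j)
      rintro x ⟨y, hy, rfl⟩
      exact ⟨y, E.Y_le j hy, rfl⟩
    · have hu' := E.n_Y j y hy
      have h1 : E.n j * y * (E.n j)⁻¹ ≠ 1 := by
        intro h
        apply hy1
        have h2 : E.n j * y = E.n j := mul_inv_eq_one.1 h
        exact mul_eq_left.1 h2
      obtain ⟨h3, h4, h5⟩ := E.rr_spec hu' h1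
      have e : E.n j * y = E.n j * y * (E.n j)⁻¹ * E.n j := by group
      rw [e, h5, hmul, hU _ (E.X_le j h4), hmul]
      obtain ⟨c, hc⟩ := hH _ (E.hh_mem j (E.rr j (E.n j * y * (E.n j)⁻¹)).2.1)
      rw [hc, map_smul]
      exact M.smul_mem _ (Submodule.subset_span ⟨_, E.Y_le j h3, rfl⟩)
  have hall : ∀ x ∈ M, ρ g x ∈ M := by
    have hg : g ∈ Subgroup.closure {g | g ∈ E.Um ∨ g ∈ E.H ∨ ∃ j, g = E.n j} := by rw [E.gen]; trivial
    induction hg using Subgroup.closure_induction_left with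
    | one => intro x hx; rw [map_one]; exact hx
    | mul_left a ha b _ h =>
      intro x hx
      rw [hmul]
      rcases ha with ha | ha | ⟨j, rfl⟩
      · exact hUm a ha _ (h x hx)
      · exact hHm a ha _ (h x hx)
      · exact hnm j _ (h x hx)
    | inv_mul_cancel a ha b _ h =>
      intro x hx
      rw [hmul]
      rcases ha with ha | ha | ⟨j, rfl⟩
      · exact hUm _ (inv_mem ha) _ (h x hx)
      · exact hHm _ (inv_mem ha) _ (h x hx)
      · have e : (E.n j)⁻¹ = E.n j * (E.n j * E.n j)⁻¹ := by group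
        rw [e, hmul]
        exact hnm j _ (hHm _ (inv_mem (E.n_sq j)) _ (h x hx))
  exact hall w hw

/-- `w` is `U`-fixed of weight `a` -/
structure IsW [Algebra F k] (ρ : S →* Module.End k W) (a : J → ℕ) (w : W) : Prop where
  fix : ∀ u ∈ E.U, ρ u w = w
  tor : ∀ j b, ρ (E.hh j b) w = algebraMap F k (b : F) ^ a j • w

variable {E} [Algebra F k] {ρ : S →* Module.End k W} {a : J → ℕ} {w : W}

theorem IsW.H (h : E.IsW ρ a w) {t : S} (ht : t ∈ E.H) : ∃ c : k, ρ t w = c • w := by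
  have hmul : ∀ (a b : S) (x : W), ρ (a * b) x = ρ a (ρ b x) := fun a b x => by rw [map_mul]; rfl
  have h0 := E.H_gen ht
  clear ht
  induction h0 using Subgroup.closure_induction with
  | mem g hg => obtain ⟨j, b, rfl⟩ := hg; exact ⟨_, h.tor j b⟩
  | one => exact ⟨1, by rw [map_one, one_smul]; rfl⟩
  | mul a b _ _ h1 h2 =>
    obtain ⟨c1, h1⟩ := h1
    obtain ⟨c2, h2⟩ := h2
    exact ⟨c2 * c1, by rw [hmul, h2, map_smul, h1, smul_smul]⟩
  | inv a _ h1 =>
    obtain ⟨c, h1⟩ := h1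
    by_cases hw : w = 0
    · exact ⟨1, by rw [hw, map_zero, smul_zero]⟩
    · have hc : c ≠ 0 := by
        rintro rfl
        apply hw
        have h2 := congrArg (ρ a⁻¹) h1
        rw [← hmul, inv_mul_cancel, zero_smul, map_zero, map_one] at h2
        exact h2
      refine ⟨c⁻¹, ?_⟩
      have h2 := congrArg (ρ a⁻¹) h1
      rw [← hmul, inv_mul_cancel, map_one, map_smul] at h2
      have h3 : w = c • ρ a⁻¹ w := h2
      nth_rw 2 [h3]
      rw [smul_smul, inv_mul_cancel₀ hc, one_smul]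

theorem IsW.act (h : E.IsW ρ a w) {j : J} {u : S} (hu : u ∈ E.X j) (h1 : u ≠ 1) :
    ρ (u * E.n j) w = algebraMap F k ((E.rr j u).2.1 : F) ^ a j • ρ (E.rr j u).1 w := by
  have hmul : ∀ (a b : S) (x : W), ρ (a * b) x = ρ a (ρ b x) := fun a b x => by rw [map_mul]; rfl
  obtain ⟨h3, h4, h5⟩ := E.rr_spec hu h1
  rw [h5, hmul, h.fix _ (E.X_le j h4), hmul, h.tor, map_smul]

variable [Finite S] (E)

/-- the elements of `X j` -/
noncomputable def XF (j : J) : Finset S := (Set.toFinite (E.X j : Set S)).toFinset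

theorem mem_XF {j : J} {u : S} : u ∈ E.XF j ↔ u ∈ E.X j := by
  unfold XF
  rw [Set.Finite.mem_toFinset]
  rfl

theorem Tj_def (j : J) (w : W) : E.Tj ρ j w = ∑ u ∈ E.XF j, ρ (u * E.n j) w := rfl

theorem card_XF (j : J) : (E.XF j).card = Nat.card (E.X j) := by
  unfold XF
  rw [← Set.ncard_eq_toFinset_card]
  rfl

open Classical in
/-- the sum of the torus parts -/
noncomputable def sg (k : Type*) [Field k] [Algebra F k] (a : J → ℕ) (j : J) : k :=
  ∑ u ∈ (E.XF j).erase 1, algebraMap F k ((E.rr j u).2.1 : F) ^ a j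

variable {E}

open Classical in
theorem IsW.Tj_eq (h : E.IsW ρ a w) (j : J) : E.Tj ρ j w = ρ (E.n j) w +
    ∑ u ∈ (E.XF j).erase 1, algebraMap F k ((E.rr j u).2.1 : F) ^ a j • ρ (E.rr j u).1 w := by
  rw [Tj_def, ← Finset.add_sum_erase _ _ (E.mem_XF.2 (one_mem (E.X j))), one_mul]
  congr 1
  refine Finset.sum_congr rfl fun u hu => ?_
  exact h.act (E.mem_XF.1 (Finset.mem_of_mem_erase hu)) (Finset.ne_of_mem_erase hu)

open Classical in
theorem IsW.n_act (h : E.IsW ρ a w) {j : J} {μ : k} (hμ : E.Tj ρ j w = μ • w) : ρ (E.n j) w = μ • w -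
    ∑ u ∈ (E.XF j).erase 1, algebraMap F k ((E.rr j u).2.1 : F) ^ a j • ρ (E.rr j u).1 w := by
  rw [← hμ, h.Tj_eq]
  abel

/-- **the square relation** -/
theorem IsW.sq {p : ℕ} [CharP k p] (h : E.IsW ρ a w) (hw : w ≠ 0) {j : J} (hX : p ∣ Nat.card (E.X j)) {μ : k}
    (hμ : E.Tj ρ j w = μ • w) : μ * μ = E.sg k a j * μ := by
  classical
  have hmul : ∀ (a b : S) (x : W), ρ (a * b) x = ρ a (ρ b x) := fun a b x => by rw [map_mul]; rfl
  apply smul_left_injective k hw
  show (μ * μ) • w = (E.sg k a j * μ) • w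
  have h1 : E.Tj ρ j (E.Tj ρ j w) = (μ * μ) • w := by
    rw [hμ, Tj_def]
    simp only [map_smul]
    rw [← Finset.smul_sum, ← Tj_def, hμ, smul_smul]
  rw [← h1]
  have h2 : E.Tj ρ j (E.Tj ρ j w) = ∑ u' ∈ E.XF j, E.Tj ρ j (ρ (u' * E.n j) w) := by
    rw [Tj_def, Tj_def]
    simp only [map_sum, Tj_def]
    rw [Finset.sum_comm]
  rw [h2, ← Finset.add_sum_erase _ _ (E.mem_XF.2 (one_mem (E.X j))), one_mul]
  have h3 : E.Tj ρ j (ρ (E.n j) w) = 0 := by
    rw [Tj_def]
    obtain ⟨c, hc⟩ := h.H (E.n_sq j)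
    have h4 : ∀ u ∈ E.XF j, ρ (u * E.n j) (ρ (E.n j) w) = c • w := by
      intro u hu
      rw [← hmul, mul_assoc, hmul, hc, map_smul, h.fix _ (E.X_le j (E.mem_XF.1 hu))]
    rw [Finset.sum_congr rfl h4, Finset.sum_const, card_XF, ← Nat.cast_smul_eq_nsmul k,
      (CharP.cast_eq_zero_iff k p _).2 hX, zero_smul]
  rw [h3, zero_add]
  unfold sg
  rw [Finset.sum_mul, Finset.sum_smul]
  refine Finset.sum_congr rfl fun u' hu' => ?_
  have hu1 := E.mem_XF.1 (Finset.mem_of_mem_erase hu')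
  have hu2 := Finset.ne_of_mem_erase hu'
  obtain ⟨h3, h4, h5⟩ := E.rr_spec hu1 hu2
  rw [h.act hu1 hu2, Tj_def]
  simp only [map_smul]
  rw [← Finset.smul_sum, ← smul_smul]
  congr 1
  rw [← hμ, Tj_def]
  set y := (E.rr j u').1 with hy
  have hx := E.n_Y j y h3
  refine Finset.sum_bij' (fun u _ => u * (E.n j * y * (E.n j)⁻¹)) (fun u _ => u * (E.n j * y * (E.n j)⁻¹)⁻¹)
    (fun u hu => E.mem_XF.2 (mul_mem (E.mem_XF.1 hu) hx)) (fun u hu => E.mem_XF.2 (mul_mem (E.mem_XF.1 hu) (inv_mem hx)))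
    (fun u _ => by group) (fun u _ => by group) fun u _ => ?_
  rw [← hmul]
  congr 2
  group

/-- the span condition of `neg` -/
theorem IsW.n_mem (h : E.IsW ρ a w) {j : J} {μ : k} (hμ : E.Tj ρ j w = μ • w) :
    ρ (E.n j) w ∈ Submodule.span k {x | ∃ y ∈ E.Y j, x = ρ y w} := by
  classical
  rw [h.n_act hμ]
  refine Submodule.sub_mem _ (Submodule.smul_mem _ _ (Submodule.subset_span ⟨1, one_mem _, by rw [map_one]; rfl⟩))
    (Submodule.sum_mem _ fun u hu => Submodule.smul_mem _ _ (Submodule.subset_span ⟨_, ?_, rfl⟩))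
  exact (E.rr_spec (E.mem_XF.1 (Finset.mem_of_mem_erase hu)) (Finset.ne_of_mem_erase hu)).1

end mod

end TSys

/-! ### functions on the algebraic group -/

section fn

variable {ι Φ k G : Type*} [Field k] [Group G] [DecidableEq ι] [Fintype ι] (D : FDat ι Φ k G)

theorem cc_U (l : ι → ℕ) {u : G} (hu : u ∈ D.U) (g : G) : D.cc l (g * u) = D.cc l g := by
  induction hu using Subgroup.closure_induction generalizing g with
  | mem u hu => obtain ⟨b, s, rfl⟩ := hu; exact D.cc_z l g b s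
  | one => rw [mul_one]
  | mul a b _ _ h1 h2 => rw [← mul_assoc, h2, h1]
  | inv a _ h1 => rw [← h1 (g * a⁻¹), inv_mul_cancel_right]

theorem cc_Um (l : ι → ℕ) {u : G} (hu : u ∈ D.Um) (g : G) : D.cc l (u * g) = D.cc l g := by
  induction hu using Subgroup.closure_induction generalizing g with
  | mem u hu => obtain ⟨b, s, rfl⟩ := hu; exact D.cc_w l g b s
  | one => rw [one_mul]
  | mul a b _ _ h1 h2 => rw [mul_assoc, h1, h2]
  | inv a _ h1 => rw [← h1 (a⁻¹ * g), mul_inv_cancel_left]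

end fn

namespace TSys

variable {J F S : Type*} [Field F] [Group S] {E : TSys J F S}
variable {ι Φ k G : Type*} [Field k] [Algebra F k] [Group G] [DecidableEq ι] [DecidableEq J] [Fintype ι]
  {D : FDat ι Φ k G} {φ : S →* G} {orb : ι → J} {e : ι → ℕ}

/-- the weight of `l` -/
def wt (orb : ι → J) (e l : ι → ℕ) (j : J) : ℕ := ∑ i ∈ univ.filter (fun i => orb i = j), e i * l i

theorem Map.cc_hh (hM : E.Map D φ orb e) (l : ι → ℕ) (j : J) (b : Fˣ) :
    D.cc l (φ (E.hh j b)) = algebraMap F k (b : F) ^ wt orb e l j := by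
  unfold FDat.cc wt
  rw [← Finset.prod_pow_eq_pow_sum, Finset.prod_filter]
  refine Finset.prod_congr rfl fun i _ => ?_
  rw [hM.hh]
  split_ifs
  · rw [← pow_mul]
  · rw [one_pow]

theorem Map.cc_n (hM : E.Map D φ orb e) (l : ι → ℕ) (j : J) :
    D.cc l (φ (E.n j)) = if wt orb e l j = 0 then 1 else 0 := by
  unfold FDat.cc
  by_cases h : wt orb e l j = 0
  · rw [if_pos h]
    refine Finset.prod_eq_one fun i _ => ?_
    rw [hM.n]
    split_ifs with hi
    · have h1 := (Finset.sum_eq_zero_iff.1 h) i (by simp [hi])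
      rw [(Nat.mul_eq_zero.1 h1).resolve_left (hM.e_pos i).ne', pow_zero]
    · rw [one_pow]
  · rw [if_neg h]
    obtain ⟨i, hi, h1⟩ := Finset.exists_ne_zero_of_sum_ne_zero h
    rw [Finset.mem_filter] at hi
    refine Finset.prod_eq_zero (Finset.mem_univ i) ?_
    rw [hM.n, if_pos hi.2]
    exact zero_pow fun h2 => h1 (by rw [h2, mul_zero])

/-- the function on `S` has the weight `wt` -/
theorem Map.isW (hM : E.Map D φ orb e) (l : ι → ℕ) :
    E.IsW (k := k) (RRep (k := k) (G := S)) (wt orb e l) (fun g => D.cc l (φ g)) where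
  fix u hu := by
    funext g
    show D.cc l (φ (g * u)) = _
    rw [map_mul, cc_U D l (hM.U u hu)]
  tor j b := by
    funext g
    show D.cc l (φ (g * E.hh j b)) = algebraMap F k (b : F) ^ wt orb e l j * D.cc l (φ g)
    rw [map_mul, D.cc_mul_T l (hM.H _ (E.hh_mem j b)), hM.cc_hh]

theorem Map.cc_un (hM : E.Map D φ orb e) (l : ι → ℕ) {j : J} {u : S} (hu : u ∈ E.X j) (h1 : u ≠ 1) :
    D.cc l (φ (u * E.n j)) = algebraMap F k ((E.rr j u).2.1 : F) ^ wt orb e l j := by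
  have h := congrFun ((hM.isW l).act hu h1) 1
  have h2 : RRep (k := k) (G := S) (u * E.n j) (fun g => D.cc l (φ g)) 1 = D.cc l (φ (u * E.n j)) := by
    show D.cc l (φ (1 * (u * E.n j))) = _
    rw [one_mul]
  rw [h2] at h
  rw [h]
  show _ * D.cc l (φ (1 * (E.rr j u).1)) = _
  have h3 := cc_Um D l (hM.Um _ (E.Y_le j (E.rr_spec hu h1).1)) 1
  rw [mul_one, D.cc_one] at h3
  rw [one_mul, h3, mul_one]

variable [Finite S]

/-- the sum of the torus parts for a nontrivial character, characteristic two -/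
theorem Map.sg_zero [CharP k 2] (hM : E.Map D φ orb e) (l : ι → ℕ) {j : J} {b : Fˣ}
    (hb : algebraMap F k (b : F) ^ wt orb e l j ≠ 1) : E.sg k (wt orb e l) j = 0 := by
  classical
  set A : k := algebraMap F k (b : F) ^ wt orb e l j with hA
  obtain ⟨t, ht⟩ : ∃ t, t = E.hh j b := ⟨_, rfl⟩
  have htH : t ∈ E.H := ht ▸ E.hh_mem j b
  have htc : D.cc l (φ t) = A := by rw [ht, hM.cc_hh]
  have key : E.sg k (wt orb e l) j = A * A * E.sg k (wt orb e l) j := by
    unfold sg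
    rw [Finset.mul_sum]
    symm
    refine Finset.sum_bij' (fun u _ => t * u * t⁻¹) (fun u _ => t⁻¹ * u * t) ?_ ?_ ?_ ?_ ?_
    · intro u hu
      rw [Finset.mem_erase] at hu ⊢
      exact ⟨fun h => hu.1 (by simpa using h), E.mem_XF.2 (E.H_X j t htH u (E.mem_XF.1 hu.2))⟩
    · intro u hu
      rw [Finset.mem_erase] at hu ⊢
      refine ⟨fun h => hu.1 ?_, E.mem_XF.2 ?_⟩
      · calc u = t * (t⁻¹ * u * t) * t⁻¹ := by group
          _ = 1 := by rw [h]; group
      · have := E.H_X j t⁻¹ (inv_mem htH) u (E.mem_XF.1 hu.2)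
        rwa [inv_inv] at this
    · intro u _; group
    · intro u _; group
    · intro u hu
      rw [Finset.mem_erase] at hu
      have hu2 := E.mem_XF.1 hu.2
      have h1 : t * u * t⁻¹ ∈ E.X j := E.H_X j t htH u hu2
      have h2 : t * u * t⁻¹ ≠ 1 := fun h => hu.1 (by simpa using h)
      rw [← hM.cc_un l hu2 hu.1, ← hM.cc_un l h1 h2]
      have h3 : (E.n j)⁻¹ * t⁻¹ * E.n j = t := by
        have h3 := E.n_hh j b⁻¹
        rw [inv_inv, ← E.hh_inv, ← ht] at h3
        exact h3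
      have e1 : t * u * t⁻¹ * E.n j = t * (u * E.n j) * t := by
        calc t * u * t⁻¹ * E.n j = t * (u * E.n j) * ((E.n j)⁻¹ * t⁻¹ * E.n j) := by group
          _ = _ := by rw [h3]
      have e2 : D.cc l (φ (t * (u * E.n j) * t)) = A * (A * D.cc l (φ (u * E.n j))) := by
        rw [map_mul φ (t * (u * E.n j)) t, D.cc_mul_T l (hM.H _ htH), map_mul φ t (u * E.n j),
          D.cc_T_mul l (hM.H _ htH), htc]
      rw [e1, e2, mul_assoc]
  have h1 : (1 - A) * (1 - A) * E.sg k (wt orb e l) j = 0 := by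
    have h2 : (2 : k) = 0 := CharTwo.two_eq_zero
    linear_combination key - A * E.sg k (wt orb e l) j * h2 + A * A * E.sg k (wt orb e l) j * h2
  rcases mul_eq_zero.1 h1 with h2 | h2
  · exact absurd (sub_eq_zero.1 (mul_self_eq_zero.1 h2)).symm hb
  · exact h2

/-- the sum of the torus parts for the trivial character -/
theorem sg_one {p : ℕ} [CharP k p] {a : J → ℕ} {j : J} (ha : ∀ b : Fˣ, algebraMap F k (b : F) ^ a j = 1)
    (hX : p ∣ Nat.card (E.X j)) : E.sg k a j = -1 := by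
  classical
  unfold sg
  simp only [ha]
  rw [Finset.sum_const, Finset.card_erase_of_mem (E.mem_XF.2 (one_mem (E.X j))), card_XF, nsmul_eq_mul, mul_one]
  have h1 : 1 ≤ Nat.card (E.X j) := Nat.card_pos
  rw [Nat.cast_sub h1, (CharP.cast_eq_zero_iff k p _).2 hX, Nat.cast_one, zero_sub]

end TSys

end Cfsg.Agent.H564.TW
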