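import Cfsg.Agent.H564.TW.Main
import Cfsg.Agent.H203.TW.Cls
import Cfsg.Agent.H421.TW.Sys

/-!
# Own characteristic of `2F4(q)`: the values of the fundamental functions (helper564)

* `TSys.reparam` : change of the parametrisation of the coroot elements;
* `tw_T` : the images of the torus elements in `chevF4.group k`;
* `Δ_tor` : the values of `Δ i` on the torus; `Δ_n1`, `Δ_n2` : the values on the images of `n1`, `n2`;
* `lam_F4` : the digits.
-/

set_option autoImplicit false
set_option linter.unusedSectionVars false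

namespace Cfsg.Agent.H564.TW

open Cfsg Cfsg.Lie Cfsg.Lie.ChevalleyDatum
open Cfsg.Agent.H45.UniE Cfsg.Agent.H405.UE Cfsg.Agent.H421.UniE
open Cfsg.Agent.ChevalleyStructure Cfsg.Agent.ChevalleyStructure.Elts Cfsg.Agent.ChevalleyStructure.NPerm
  Cfsg.Agent.ChevalleyStructure.RootVec
open Cfsg.Agent.Nodes.RGDChev Cfsg.Agent.KFacts.RgdChevCoord Cfsg.Agent.Nodes Cfsg.Agent.H564.U
open Cfsg.Agent.H129.TorusChar Cfsg.Agent.Tits.Roots Cfsg.Agent.ChevalleyStructure.CoxeterGeom
  Cfsg.Agent.ChevalleyStructure.CoxeterGeomTypes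
open Cfsg.Agent.ChevalleyStructure.TwF4.TwistedFix (Rln)
open Cfsg.Agent.ChevalleyStructure.TwF4.Torus (T chi hMat_eq single_mul_prod)
open Cfsg.Agent.ChevalleyStructure.TwF4.TwGen (tc)
open Cfsg.Agent.KFacts.TwF4.Inst (go ge ro re oA oB eA eB eC eD lt48)
open Cfsg.Agent.H203.TW (tw tw_ro tw_re twisted_le)

/-! ### reparametrisation -/

/-- change of the parametrisation of the coroot elements -/
def TSys.reparam {J F S : Type*} [Field F] [Group S] (E : TSys J F S) (ψ : J → Fˣ ≃* Fˣ) : TSys J F S where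
  U := E.U
  Um := E.Um
  H := E.H
  X := E.X
  Y := E.Y
  V := E.V
  Z := E.Z
  n := E.n
  hh j b := E.hh j (ψ j b)
  gen := E.gen
  H_comm := E.H_comm
  hh_mem j b := E.hh_mem j _
  hh_mul j b c := by rw [map_mul, E.hh_mul]
  H_gen := E.H_gen.trans (Subgroup.closure_mono (by
    rintro _ ⟨j, b, rfl⟩
    exact ⟨j, (ψ j).symm b, by rw [MulEquiv.apply_symm_apply]⟩))
  n_hh j b := by rw [E.n_hh, map_inv]
  n_sq := E.n_sq
  X_ne := E.X_ne
  X_le := E.X_le
  Y_le := E.Y_le
  Z_le := E.Z_le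
  U_eq := E.U_eq
  Um_eq := E.Um_eq
  V_le := E.V_le
  X_V := E.X_V
  n_V := E.n_V
  n_Z := E.n_Z
  n_Y := E.n_Y
  H_X := E.H_X
  H_Um := E.H_Um
  rank j u hu h1 := by
    obtain ⟨y, hy, b, x, hx, h⟩ := E.rank j u hu h1
    exact ⟨y, hy, (ψ j).symm b, x, hx, by rw [MulEquiv.apply_symm_apply]; exact h⟩

theorem TSys.wt_reparam {J F S : Type*} [Field F] [Group S] [Finite S] {E : TSys J F S} (ψ : J → Fˣ ≃* Fˣ)
    {k W : Type*} [Field k] [AddCommGroup W] [Module k W] (h : E.Wt k W) : (E.reparam ψ).Wt k W := h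

/-! ### the digits -/

/-- the orbits of the simple roots: `p₁, p₄` and `p₂, p₃` -/
def orb : Fin 4 → Bool := ![true, false, false, true]

/-- the exponents -/
def ee (m : ℕ) : Fin 4 → ℕ := ![1, 1, 2 ^ (m + 1), 2 ^ (m + 1)]

theorem ee_pos (m : ℕ) (i : Fin 4) : 0 < ee m i := by
  fin_cases i
  · exact Nat.one_pos
  · exact Nat.one_pos
  · exact Nat.two_pow_pos _
  · exact Nat.two_pow_pos _

theorem long_tab : ∀ i : Fin 4, chevF4.isLong (psr KindF.isType i).1 = (![false, false, true, true] : Fin 4 → Bool) i := by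
  have h : ∀ i : Fin 4, chevF4.isLong (chevF4.simple i) = (![false, false, true, true] : Fin 4 → Bool) i := by decide +kernel
  exact h

theorem lam_F4 (m : ℕ) (a : Bool → ℕ) (ha : ∀ j, a j < 2 ^ (2 * m + 1)) : ∃ l : Fin 4 → ℕ,
    (∀ i, l i < qF m (psr KindF.isType i)) ∧ ∀ j, TSys.wt orb (ee m) l j = a j := by
  have hq : 2 ^ (2 * m + 1) = 2 ^ (m + 1) * 2 ^ m := by rw [← pow_add]; congr 1; omega
  have hpos : 0 < 2 ^ (m + 1) := Nat.two_pow_pos _
  refine ⟨![a true % 2 ^ (m + 1), a false % 2 ^ (m + 1), a false / 2 ^ (m + 1), a true / 2 ^ (m + 1)], fun i => ?_,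
    fun j => ?_⟩
  · unfold qF
    rw [long_tab]
    fin_cases i
    · exact Nat.mod_lt _ hpos
    · exact Nat.mod_lt _ hpos
    · show a false / 2 ^ (m + 1) < 2 ^ m
      rw [Nat.div_lt_iff_lt_mul hpos, mul_comm, ← hq]
      exact ha false
    · show a true / 2 ^ (m + 1) < 2 ^ m
      rw [Nat.div_lt_iff_lt_mul hpos, mul_comm, ← hq]
      exact ha true
  · unfold TSys.wt
    rw [Finset.sum_filter, Fin.sum_univ_four]
    cases j
    · show 0 + 1 * (a false % 2 ^ (m + 1)) + 2 ^ (m + 1) * (a false / 2 ^ (m + 1)) + 0 = a false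
      rw [zero_add, add_zero, one_mul]
      exact Nat.mod_add_div _ _
    · show 1 * (a true % 2 ^ (m + 1)) + 0 + 0 + 2 ^ (m + 1) * (a true / 2 ^ (m + 1)) = a true
      rw [add_zero, add_zero, one_mul]
      exact Nat.mod_add_div _ _

/-! ### the torus -/

section torus

variable {K : Type*} [Field K] [CharP K 2] {k : Type*} [Field k] [Algebra K k]

theorem hG_eq_T {r : ℕ} (hr : r < 48) (t : Kˣ) :
    hG KindF.isType.inList r (t : K) = T (Cfsg.Agent.ChevalleyStructure.TwF4.Torus.hc r t) :=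
  Units.ext (by rw [coe_hG]; exact hMat_eq hr t)

/-- the image of a torus element -/
theorem tw_T {e : ℕ} (c : Fin 4 → Kˣ) {g : ↥(twistedF4 K e)} (h : (g : GL chevF4.Idx K) = T c) :
    tw K k e g = hc KindF.isType 0 (algebraMap K k (c 0)) * hc KindF.isType 1 (algebraMap K k (c 1)) *
      hc KindF.isType 2 (algebraMap K k (c 2)) * hc KindF.isType 3 (algebraMap K k (c 3)) := by
  apply Subtype.ext
  show Matrix.GeneralLinearGroup.map (algebraMap K k) (g : GL chevF4.Idx K) =
    hG KindF.isType.inList 33 (algebraMap K k (c 0)) * hG KindF.isType.inList 27 (algebraMap K k (c 1)) *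
      hG KindF.isType.inList 25 (algebraMap K k (c 2)) * hG KindF.isType.inList 24 (algebraMap K k (c 3))
  have e1 : (g : GL chevF4.Idx K) = hG KindF.isType.inList 33 (c 0 : K) * hG KindF.isType.inList 27 (c 1 : K) *
      hG KindF.isType.inList 25 (c 2 : K) * hG KindF.isType.inList 24 (c 3 : K) := by
    rw [h, hG_eq_T (by norm_num), hG_eq_T (by norm_num), hG_eq_T (by norm_num), hG_eq_T (by norm_num), ← map_mul,
      ← map_mul, ← map_mul, ← single_mul_prod]
  rw [e1, map_mul, map_mul, map_mul, glmap_hG, glmap_hG, glmap_hG, glmap_hG]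

end torus

/-! ### the values of the fundamental functions -/

section val

variable {k : Type*} [Field k] [Infinite k] (F : FDat (Fin 4) (PR chevF4) k ↥(chevF4.group k))

theorem Δ_prod (u : Fin 4 → kˣ) (i : Fin 4) : F.Δ i (F.hh 0 (u 0) * F.hh 1 (u 1) * F.hh 2 (u 2) * F.hh 3 (u 3)) = u i := by
  rw [F.Δ_T i _ (F.hh_mem _ _), F.Δ_T i _ (F.hh_mem _ _), F.Δ_T i _ (F.hh_mem _ _)]
  simp only [F.Δ_hh]
  fin_cases i <;> simp

variable {F} (hF : F.toGDat = gdat KindF.isType k)
include hF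

theorem F_hh (j : Fin 4) (c : kˣ) : F.hh j c = hc KindF.isType j (c : k) := by
  show F.toGDat.hh j c = _
  rw [hF]
  rfl

theorem F_x (j : Fin 4) (s : k) : F.x j s = zz KindF.isType (chevF4.simple j) s := by
  show F.toGDat.x j s = _
  rw [hF]
  exact zz_simple _ _ _

theorem F_y (j : Fin 4) (s : k) : F.y j s = zz KindF.isType (chevF4.neg (chevF4.simple j)) s := by
  show F.toGDat.y j s = _
  rw [hF]
  exact zz_neg_simple _ _ _

variable {K : Type*} [Field K] [CharP K 2] [Algebra K k]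

/-- the values on the images of the torus elements -/
theorem Δ_tw_T {e : ℕ} (c : Fin 4 → Kˣ) {g : ↥(twistedF4 K e)} (h : (g : GL chevF4.Idx K) = T c) (i : Fin 4) :
    F.Δ i (tw K k e g) = algebraMap K k (c i) := by
  have h1 := Δ_prod F (fun j => Units.map (algebraMap K k).toMonoidHom (c j)) i
  rw [F_hh hF, F_hh hF, F_hh hF, F_hh hF] at h1
  rw [tw_T c h]
  exact h1

theorem tw_T_mem {e : ℕ} (c : Fin 4 → Kˣ) {g : ↥(twistedF4 K e)} (h : (g : GL chevF4.Idx K) = T c) :
    tw K k e g ∈ F.T := by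
  rw [tw_T c h]
  have h1 : ∀ j (u : Kˣ), hc KindF.isType j (algebraMap K k u) ∈ F.T := fun j u => by
    have := F.hh_mem j (Units.map (algebraMap K k).toMonoidHom u)
    rw [F_hh hF] at this
    exact this
  exact mul_mem (mul_mem (mul_mem (h1 _ _) (h1 _ _)) (h1 _ _)) (h1 _ _)

/-- the group generated by the simple root elements of an orbit -/
def CC (F : FDat (Fin 4) (PR chevF4) k ↥(chevF4.group k)) (b : Bool) : Subgroup ↥(chevF4.group k) :=
  Subgroup.closure {g | ∃ j s, orb j = b ∧ (g = F.x j s ∨ g = F.y j s)}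

theorem mem_CC_simple {b : Bool} (j : Fin 4) (hj : orb j = b) (s : k) :
    zz KindF.isType (chevF4.simple j) s ∈ CC F b := by
  rw [← F_x hF]
  exact Subgroup.subset_closure ⟨j, s, hj, Or.inl rfl⟩

theorem mem_CC_neg {b : Bool} (j : Fin 4) (hj : orb j = b) (s : k) :
    zz KindF.isType (chevF4.neg (chevF4.simple j)) s ∈ CC F b := by
  rw [← F_y hF]
  exact Subgroup.subset_closure ⟨j, s, hj, Or.inr rfl⟩

theorem mem_CC_refl {b : Bool} (j : Fin 4) (hj : orb j = b) {r : ℕ} (hr : r < 48)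
    (h : ∀ s : k, zz KindF.isType r s ∈ CC F b) (s : k) : zz KindF.isType (chevF4.reflectRoot j r) s ∈ CC F b := by
  have hn : nc KindF.isType k j ∈ CC F b := by
    have e : nc KindF.isType k j = zz KindF.isType (chevF4.simple j) 1 *
        (zz KindF.isType (chevF4.neg (chevF4.simple j)) (-(1 : k)⁻¹) * zz KindF.isType (chevF4.simple j) 1) := by
      apply Subtype.ext
      show nG KindF.isType.inList (chevF4.simple j) 1 = _
      rw [nG_def]
      rfl
    rw [e]
    exact mul_mem (mem_CC_simple hF j hj _) (mul_mem (mem_CC_neg hF j hj _) (mem_CC_simple hF j hj _))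
  obtain ⟨c, hc0, e⟩ := nact KindF.isType (K := k) (i := j) (r := r) hr
  have h1 := e (c⁻¹ * s)
  rw [mul_inv_cancel_left₀ hc0, zz_vec KindF.isType hr, zz_vec KindF.isType (reflectRoot_lt KindF.isType.inList j.2 hr)] at h1
  rw [← h1]
  exact mul_mem (mul_mem hn (h _)) (inv_mem hn)

theorem Δ_CC {i : Fin 4} {b : Bool} (hi : orb i ≠ b) {g : ↥(chevF4.group k)} (hg : g ∈ CC F b) : F.Δ i g = 1 := by
  have h := Δ_one_of F (i := i) (A := fun j => orb j = b) (fun j hj h => hi (h ▸ hj)) hg 1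
  rw [one_mul, F.Δ_one] at h
  exact h

end val

end Cfsg.Agent.H564.TW
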