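import Cfsg.Agent.H564.TW.Val

/-!
# Own characteristic of `2F4(q)`: coroots and reflections (helper564)
-/

set_option autoImplicit false
set_option linter.unusedSectionVars false

namespace Cfsg.Agent.H564.TW

open Cfsg Cfsg.Lie Cfsg.Lie.ChevalleyDatum
open Cfsg.Agent.H45.UniE Cfsg.Agent.H405.UE Cfsg.Agent.H421.UniE
open Cfsg.Agent.ChevalleyStructure Cfsg.Agent.ChevalleyStructure.Elts
open Cfsg.Agent.Nodes.RGDChev Cfsg.Agent.KFacts.RgdChevCoord Cfsg.Agent.Nodes Cfsg.Agent.H564.U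
open Cfsg.Agent.ChevalleyStructure.TwF4.TwistedFix (Rln)
open Cfsg.Agent.ChevalleyStructure.TwF4.Torus (T chi chi_def)
open Cfsg.Agent.ChevalleyStructure.F4NTab (ca)
open Cfsg.Agent.ChevalleyStructure.TwF4.TwGen (tc)
open Cfsg.Agent.KFacts.TwF4.Inst (ro re oA oB eA eB eC eD lt48 hT hT_eq full n1_word n2_word)
open Cfsg.Agent.Octagon.KPar (sq_phi)
open Cfsg.Agent.H203.TW (tw tw_ro tw_re twisted_le)
open Cfsg.Agent.KFacts.TwF4 (Full)

theorem tab20 : ca 0 20 = 1 ∧ ca 1 20 = -2 ∧ ca 2 20 = 1 ∧ ca 3 20 = 0 := by decide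
theorem tab34 : ca 0 34 = 1 ∧ ca 1 34 = 1 ∧ ca 2 34 = -1 ∧ ca 3 34 = 0 := by decide

section

variable {K : Type*} [Field K]

theorem chi20 (c : Fin 4 → Kˣ) : chi c 20 = c 0 * ((c 1) ^ 2)⁻¹ * c 2 := by
  obtain ⟨h0, h1, h2, h3⟩ := tab20
  rw [chi_def, h0, h1, h2, h3, zpow_one, zpow_one, zpow_zero, mul_one, zpow_neg]
  rfl

theorem chi34 (c : Fin 4 → Kˣ) : chi c 34 = c 0 * c 1 * (c 2)⁻¹ := by
  obtain ⟨h0, h1, h2, h3⟩ := tab34
  rw [chi_def, h0, h1, h2, h3, zpow_one, zpow_one, zpow_zero, mul_one, zpow_neg, zpow_one]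

end

variable {K : Type*} [Field K] [CharP K 2] [Finite K] {φ : K →+* K} {e : ℕ}

theorem units_phi_pow (hφ : Rln φ e) (c : Kˣ) : (Units.map (φ : K →* K) c) ^ e = c := by
  apply Units.ext
  rw [Units.val_pow_eq_pow_val]
  show (φ (c : K)) ^ e = c
  rw [← map_pow, hφ.phi_pow]

/-- the coroot elements of the first node -/
theorem hT_true (hφ : Rln φ e) (c : Kˣ) :
    (hT hφ c c : GL chevF4.Idx K) = T ![c, 1, 1, Units.map (φ : K →* K) c] := by
  have e1 : tc e 1 (Units.map (φ : K →* K) c) = ![c, 1, 1, Units.map (φ : K →* K) c] := by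
    unfold tc
    rw [units_phi_pow hφ, one_pow]
  rw [← e1]
  refine hT_eq hφ ?_ ?_
  · rw [e1]
    show chi _ 20 = c
    rw [chi20]
    simp
  · rw [e1]
    show chi _ 34 = c
    rw [chi34]
    simp

/-- the coroot elements of the second node -/
theorem hT_false (hφ : Rln φ e) (a : Kˣ) :
    (hT hφ (Units.map (φ : K →* K) (a / Units.map (φ : K →* K) a)) (a / Units.map (φ : K →* K) a) : GL chevF4.Idx K) =
      T ![1, a, Units.map (φ : K →* K) a, 1] := by
  have e1 : tc e (Units.map (φ : K →* K) a) 1 = ![1, a, Units.map (φ : K →* K) a, 1] := by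
    unfold tc
    rw [units_phi_pow hφ, one_pow]
  rw [← e1]
  refine hT_eq hφ ?_ ?_
  · rw [e1]
    show chi _ 20 = _
    rw [chi20, map_div, Cfsg.Agent.KFacts.TwF4.map_map φ (sq_phi hφ)]
    show 1 * (a ^ 2)⁻¹ * Units.map (φ : K →* K) a = Units.map (φ : K →* K) a / a ^ 2
    rw [one_mul, mul_comm, div_eq_mul_inv]
  · rw [e1]
    show chi _ 34 = _
    rw [chi34]
    show 1 * a * (Units.map (φ : K →* K) a)⁻¹ = _
    rw [one_mul, div_eq_mul_inv]

/-- the reparametrisation of the second node -/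
noncomputable def psi (hφ : Rln φ e) : Kˣ ≃* Kˣ :=
  MulEquiv.ofBijective ((MonoidHom.id Kˣ) / (Units.map (φ : K →* K))) (by
    rw [← Finite.injective_iff_bijective, injective_iff_map_eq_one]
    intro a ha
    have h1 : a = Units.map (φ : K →* K) a := div_eq_one.1 ha
    have h2 := Cfsg.Agent.KFacts.TwF4.map_map φ (sq_phi hφ) a
    rw [← h1, ← h1, sq] at h2
    exact mul_eq_left.1 h2.symm)

theorem psi_apply (hφ : Rln φ e) (a : Kˣ) : psi hφ a = a / Units.map (φ : K →* K) a := rfl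

/-- the reparametrisation -/
noncomputable def ps (hφ : Rln φ e) : Bool → Kˣ ≃* Kˣ
  | true => MulEquiv.refl _
  | false => psi hφ

section fin

variable {K : Type*} [Field K] [CharP K 2] [Fintype K] {φ : K →+* K} {m : ℕ}

/-- **the system of `2F4(q)`** -/
noncomputable def sysF (hK : Fintype.card K = 2 ^ (2 * m + 1)) (hφ : Rln φ (2 ^ m)) :
    TSys Bool K ↥(twistedF4 K (2 ^ m)) :=
  (Cfsg.Agent.H421.TW.tsys (full hK hφ)).reparam (ps hφ)

/-- the coroot elements in the torus -/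
def cor (φ : K →+* K) : Bool → Kˣ → Fin 4 → Kˣ
  | true => fun c => ![c, 1, 1, Units.map (φ : K →* K) c]
  | false => fun a => ![1, a, Units.map (φ : K →* K) a, 1]

theorem hh_eq (hK : Fintype.card K = 2 ^ (2 * m + 1)) (hφ : Rln φ (2 ^ m)) (j : Bool) (b : Kˣ) :
    ((sysF hK hφ).hh j b : GL chevF4.Idx K) = T (cor φ j b) := by
  cases j
  · exact hT_false hφ b
  · exact hT_true hφ b

variable {k : Type*} [Field k] [Infinite k] [Algebra K k] {F : FDat (Fin 4) (PR chevF4) k ↥(chevF4.group k)}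
  (hF : F.toGDat = gdat KindF.isType k)
include hF

theorem cor_val (hφ : Rln φ (2 ^ m)) (i : Fin 4) (j : Bool) (b : Kˣ) :
    algebraMap K k (cor φ j b i) = if orb i = j then algebraMap K k (b : K) ^ ee m i else 1 := by
  have h1 : algebraMap K k (φ (b : K)) = algebraMap K k (b : K) ^ 2 ^ (m + 1) := by
    rw [hφ.phi, ← pow_mul, ← pow_succ, map_pow]
  cases j <;> fin_cases i <;> simp [cor, orb, ee, h1]

/-- values on the coroot elements -/
theorem Δ_hh' (hK : Fintype.card K = 2 ^ (2 * m + 1)) (hφ : Rln φ (2 ^ m)) (i : Fin 4) (j : Bool) (b : Kˣ) :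
    F.Δ i (tw K k (2 ^ m) ((sysF hK hφ).hh j b)) = if orb i = j then algebraMap K k (b : K) ^ ee m i else 1 := by
  rw [Δ_tw_T hF (cor φ j b) (hh_eq hK hφ j b), cor_val hF hφ]

theorem hh_mem' (hK : Fintype.card K = 2 ^ (2 * m + 1)) (hφ : Rln φ (2 ^ m)) (j : Bool) (b : Kˣ) :
    tw K k (2 ^ m) ((sysF hK hφ).hh j b) ∈ F.T := tw_T_mem hF (cor φ j b) (hh_eq hK hφ j b)

theorem H_mem' (hK : Fintype.card K = 2 ^ (2 * m + 1)) (hφ : Rln φ (2 ^ m)) {t : ↥(twistedF4 K (2 ^ m))}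
    (ht : t ∈ (sysF hK hφ).H) : tw K k (2 ^ m) t ∈ F.T := by
  have h0 := (sysF hK hφ).H_gen ht
  clear ht
  induction h0 using Subgroup.closure_induction with
  | mem g hg => obtain ⟨j, b, rfl⟩ := hg; exact hh_mem' hF hK hφ j b
  | one => rw [map_one]; exact one_mem _
  | mul a b _ _ h1 h2 => rw [map_mul]; exact mul_mem h1 h2
  | inv a _ h1 => rw [map_inv]; exact inv_mem h1

end fin

end Cfsg.Agent.H564.TW
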