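import Cfsg.Agent.H564.TW.Val2

/-!
# Own characteristic of `2F4(q)`: unipotent groups, reflections, the anti-automorphism (helper564)
-/

set_option autoImplicit false
set_option linter.unusedSectionVars false

namespace Cfsg.Agent.H564.TW

open Cfsg Cfsg.Lie Cfsg.Lie.ChevalleyDatum
open Cfsg.Agent.H45.UniE Cfsg.Agent.H405.UE Cfsg.Agent.H421.UniE
open Cfsg.Agent.ChevalleyStructure Cfsg.Agent.ChevalleyStructure.Elts
open Cfsg.Agent.Nodes.RGDChev Cfsg.Agent.KFacts.RgdChevCoord Cfsg.Agent.Nodes Cfsg.Agent.H564.U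
open Cfsg.Agent.ChevalleyStructure.TwF4.TwistedFix (Rln)
open Cfsg.Agent.ChevalleyStructure.TwF4.Groups (isPosRoot_iff)
open Cfsg.Agent.KFacts.TwF4.Inst (ro re oA oB eA eB eC eD lt48 full n1_word n2_word)
open Cfsg.Agent.H203.TW (tw tw_ro tw_re twisted_le)
open Cfsg.Agent.KFacts.TwF4 (Full)
open Cfsg.Agent.SplitTwo.ZS (J J_le)

section

variable {k : Type*} [Field k] [Infinite k] {F : FDat (Fin 4) (PR chevF4) k ↥(chevF4.group k)}
  (hF : F.toGDat = gdat KindF.isType k)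
include hF

theorem zz_mem_U {r : ℕ} (h1 : 24 ≤ r) (h2 : r < 48) (s : k) : zz KindF.isType r s ∈ F.U := by
  refine Subgroup.subset_closure ⟨⟨r, (isPosRoot_iff r).2 ⟨h2, h1⟩⟩, s, ?_⟩
  show _ = F.toGDat.z _ s
  rw [hF]
  rfl

theorem F_τ (g : ↥(chevF4.group k)) : F.τ g = tau KindF.isType g := by
  show F.toGDat.τ g = _
  rw [hF]
  rfl

theorem neg_eq {r : ℕ} (h : r < 48) : chevF4.neg r = 47 - r := by
  rw [Cfsg.Agent.ChevalleyStructure.TwF4.Torus.ng_eq h, Cfsg.Agent.ChevalleyStructure.TwF4.Torus.ng_eq_sub h]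

theorem τ_zz {r : ℕ} (h : r < 48) (s : k) : F.τ (zz KindF.isType r s) = zz KindF.isType (47 - r) s := by
  rw [F_τ hF, tau_zz KindF.isType h, neg_eq hF h]

theorem zz_mem_Um {r : ℕ} (h : r < 24) (s : k) : zz KindF.isType r s ∈ F.Um := by
  have h1 : F.τ (zz KindF.isType (47 - r) s) = zz KindF.isType r s := by
    rw [τ_zz hF (by omega)]
    congr 1
    omega
  rw [← h1]
  exact F.τ_U (zz_mem_U hF (by omega) (by omega) s)

end

theorem ex_fin (a c : ℤ) (h1 : c ≤ a) (h2 : a < c + 4) : ∃ b : Fin 4, a = (b.1 : ℤ) + c :=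
  ⟨⟨(a - c).toNat, by omega⟩, by show a = (((a - c).toNat : ℕ) : ℤ) + c; omega⟩

/-! ### tables -/

theorem tab_neg : ∀ a : ZMod 8, oA (a + 4) = 47 - oA a ∧ oB (a + 4) = 47 - oB a ∧ eA (a + 4) = 47 - eA a ∧
    eB (a + 4) = 47 - eB a ∧ eC (a + 4) = 47 - eC a ∧ eD (a + 4) = 47 - eD a := by decide

theorem tab_posO : ∀ a : Fin 4, 24 ≤ oA ((a.1 : ℕ) : ZMod 8) ∧ 24 ≤ oB ((a.1 : ℕ) : ZMod 8) := by decide

theorem tab_posE : ∀ a : Fin 4, 24 ≤ eA ((a.1 + 1 : ℕ) : ZMod 8) ∧ 24 ≤ eB ((a.1 + 1 : ℕ) : ZMod 8) ∧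
    24 ≤ eC ((a.1 + 1 : ℕ) : ZMod 8) ∧ 24 ≤ eD ((a.1 + 1 : ℕ) : ZMod 8) := by decide

theorem tab_refl : chevF4.reflectRoot 1 25 = 30 ∧ chevF4.reflectRoot 2 27 = 28 ∧ chevF4.reflectRoot 1 22 = 17 ∧
    chevF4.reflectRoot 2 20 = 19 := by decide +kernel

theorem tab_simple : chevF4.simple 0 = 33 ∧ chevF4.simple 1 = 27 ∧ chevF4.simple 2 = 25 ∧ chevF4.simple 3 = 24 ∧
    chevF4.neg 33 = 14 ∧ chevF4.neg 27 = 20 ∧ chevF4.neg 25 = 22 ∧ chevF4.neg 24 = 23 := by decide +kernel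

section fin

variable {K : Type*} [Field K] [CharP K 2] [Fintype K] {φ : K →+* K} {m : ℕ}

variable {k : Type*} [Field k] [CharP k 2] [Infinite k] [Algebra K k] {F : FDat (Fin 4) (PR chevF4) k ↥(chevF4.group k)}
  (hF : F.toGDat = gdat KindF.isType k)
include hF

/-! ### the reflections -/

theorem n1_CC (hK : Fintype.card K = 2 ^ (2 * m + 1)) (hφ : Rln φ (2 ^ m)) :
    tw K k (2 ^ m) ((sysF hK hφ).n true) ∈ CC F true := by
  have h : (sysF hK hφ).n true = ro hφ 0 1 * ro hφ 4 1 * ro hφ 0 1 := n1_word hφ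
  obtain ⟨t0, t1, t2, t3, t4, t5, t6, t7⟩ := tab_simple
  have h33 : ∀ s : k, zz KindF.isType 33 s ∈ CC F true := fun s => by rw [← t0]; exact mem_CC_simple hF 0 rfl s
  have h24 : ∀ s : k, zz KindF.isType 24 s ∈ CC F true := fun s => by rw [← t3]; exact mem_CC_simple hF 3 rfl s
  have h14 : ∀ s : k, zz KindF.isType 14 s ∈ CC F true := fun s => by
    rw [← t4, ← t0]; exact mem_CC_neg hF 0 rfl s
  have h23 : ∀ s : k, zz KindF.isType 23 s ∈ CC F true := fun s => by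
    rw [← t7, ← t3]; exact mem_CC_neg hF 3 rfl s
  have e0 : tw K k (2 ^ m) (ro hφ 0 1) ∈ CC F true := by
    rw [tw_ro]; exact mul_mem (h33 _) (h24 _)
  have e4 : tw K k (2 ^ m) (ro hφ 4 1) ∈ CC F true := by
    rw [tw_ro]; exact mul_mem (h14 _) (h23 _)
  rw [h, map_mul, map_mul]
  exact mul_mem (mul_mem e0 e4) e0

theorem n2_CC (hK : Fintype.card K = 2 ^ (2 * m + 1)) (hφ : Rln φ (2 ^ m)) :
    tw K k (2 ^ m) ((sysF hK hφ).n false) ∈ CC F false := by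
  have h : (sysF hK hφ).n false = re hφ 4 0 1 * re hφ 0 1 1 * re hφ 4 1 0 := n2_word hφ
  obtain ⟨t0, t1, t2, t3, t4, t5, t6, t7⟩ := tab_simple
  obtain ⟨r1, r2, r3, r4⟩ := tab_refl
  have h27 : ∀ s : k, zz KindF.isType 27 s ∈ CC F false := fun s => by rw [← t1]; exact mem_CC_simple hF 1 rfl s
  have h25 : ∀ s : k, zz KindF.isType 25 s ∈ CC F false := fun s => by rw [← t2]; exact mem_CC_simple hF 2 rfl s
  have h20 : ∀ s : k, zz KindF.isType 20 s ∈ CC F false := fun s => by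
    rw [← t5, ← t1]; exact mem_CC_neg hF 1 rfl s
  have h22 : ∀ s : k, zz KindF.isType 22 s ∈ CC F false := fun s => by
    rw [← t6, ← t2]; exact mem_CC_neg hF 2 rfl s
  have h30 : ∀ s : k, zz KindF.isType 30 s ∈ CC F false := fun s => by
    rw [← r1]; exact mem_CC_refl hF 1 rfl (by norm_num) h25 s
  have h28 : ∀ s : k, zz KindF.isType 28 s ∈ CC F false := fun s => by
    rw [← r2]; exact mem_CC_refl hF 2 rfl (by norm_num) h27 s
  have h17 : ∀ s : k, zz KindF.isType 17 s ∈ CC F false := fun s => by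
    rw [← r3]; exact mem_CC_refl hF 1 rfl (by norm_num) h22 s
  have h19 : ∀ s : k, zz KindF.isType 19 s ∈ CC F false := fun s => by
    rw [← r4]; exact mem_CC_refl hF 2 rfl (by norm_num) h20 s
  have e4 : ∀ p u, tw K k (2 ^ m) (re hφ 4 p u) ∈ CC F false := fun p u => by
    rw [tw_re]; exact mul_mem (mul_mem (mul_mem (h27 _) (h25 _)) (h28 _)) (h30 _)
  have e0 : ∀ p u, tw K k (2 ^ m) (re hφ 0 p u) ∈ CC F false := fun p u => by
    rw [tw_re]; exact mul_mem (mul_mem (mul_mem (h20 _) (h22 _)) (h19 _)) (h17 _)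
  rw [h, map_mul, map_mul]
  exact mul_mem (mul_mem (e4 _ _) (e0 _ _)) (e4 _ _)

theorem Δ_n' (hm : 1 ≤ m) (hK : Fintype.card K = 2 ^ (2 * m + 1)) (hφ : Rln φ (2 ^ m)) (i : Fin 4) (j : Bool) :
    F.Δ i (tw K k (2 ^ m) ((sysF hK hφ).n j)) = if orb i = j then 0 else 1 := by
  by_cases hi : orb i = j
  · rw [if_pos hi]
    -- an element `b ≠ 1`
    have hcard : 2 < Fintype.card K := by
      rw [hK]
      calc 2 < 2 ^ (2 * 1 + 1) := by norm_num
        _ ≤ 2 ^ (2 * m + 1) := Nat.pow_le_pow_right (by norm_num) (by omega)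
    have hnt : Nontrivial Kˣ := by
      classical
      rw [← Finite.one_lt_card_iff_nontrivial, Nat.card_eq_fintype_card, Fintype.card_units]
      omega
    obtain ⟨b, hb⟩ := exists_ne (1 : Kˣ)
    set E := sysF hK hφ with hE
    set A : k := algebraMap K k (b : K) ^ ee m i with hA
    have hA1 : A ≠ 1 := by
      intro h
      have h2 : (2 : ℕ) ^ (m + 1) = 2 ^ (m + 1) := rfl
      have h3 : algebraMap K k (b : K) = 1 := by
        have key : ∀ n : ℕ, algebraMap K k (b : K) ^ 2 ^ n = 1 → algebraMap K k (b : K) = 1 := by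
          intro n hn
          have h4 := iterateFrobenius_inj k 2 n
          apply h4
          rw [iterateFrobenius_def, iterateFrobenius_def, hn, one_pow]
        fin_cases i
        · exact key 0 (by rw [pow_zero]; exact h)
        · exact key 0 (by rw [pow_zero]; exact h)
        · exact key (m + 1) h
        · exact key (m + 1) h
      apply hb
      apply Units.ext
      apply (algebraMap K k).injective
      rw [h3, Units.val_one, map_one]
    have h1 : tw K k (2 ^ m) (E.hh j b) * tw K k (2 ^ m) (E.n j) = tw K k (2 ^ m) (E.n j) * tw K k (2 ^ m) (E.hh j b⁻¹) := by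
      rw [← map_mul, ← map_mul, ← E.n_hh]
      congr 1
      group
    have h2 := congrArg (F.Δ i) h1
    rw [F.Δ_T' i (hh_mem' hF hK hφ j b), F.Δ_T i _ (hh_mem' hF hK hφ j b⁻¹), Δ_hh' hF hK hφ, Δ_hh' hF hK hφ, if_pos hi,
      if_pos hi] at h2
    by_contra h0
    have h3 : A = algebraMap K k ((b⁻¹ : Kˣ) : K) ^ ee m i := mul_right_cancel₀ h0 h2
    have h4 : A * A = 1 := by
      nth_rw 2 [h3]
      rw [hA, ← mul_pow, ← map_mul, ← Units.val_mul, mul_inv_cancel, Units.val_one, map_one, one_pow]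
    apply hA1
    have h5 : (A - 1) * (A - 1) = 0 := by
      have h2' : (2 : k) = 0 := CharTwo.two_eq_zero
      linear_combination h4 - (A - 1) * h2'
    exact sub_eq_zero.1 (mul_self_eq_zero.1 h5)
  · rw [if_neg hi]
    cases j
    · exact Δ_CC hF hi (n2_CC hF hK hφ)
    · exact Δ_CC hF hi (n1_CC hF hK hφ)

/-! ### the unipotent groups -/

theorem U_mem' (hK : Fintype.card K = 2 ^ (2 * m + 1)) (hφ : Rln φ (2 ^ m)) {u : ↥(twistedF4 K (2 ^ m))}
    (hu : u ∈ (sysF hK hφ).U) : tw K k (2 ^ m) u ∈ F.U := by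
  set S := full hK hφ with hS
  have h : J S.XZ 1 8 ≤ F.U.comap (tw K k (2 ^ m)) := by
    refine J_le fun j h1 h2 x hx => ?_
    rw [Subgroup.mem_comap]
    obtain ⟨a, ha⟩ := Int.even_or_odd' j
    rcases ha with ha | ha
    · rw [ha] at hx
      obtain ⟨p, u, rfl⟩ := (S.mem_XZ_even a x).1 hx
      show tw K k (2 ^ m) (re hφ (a : ZMod 8) p u) ∈ F.U
      obtain ⟨b, hb'⟩ := ex_fin a 1 (by omega) (by omega)
      have hb : (a : ZMod 8) = ((b.1 + 1 : ℕ) : ZMod 8) := by rw [hb']; push_cast; ring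
      obtain ⟨g1, g2, g3, g4⟩ := tab_posE b
      obtain ⟨-, -, l1, l2, l3, l4⟩ := lt48 (a : ZMod 8)
      rw [← hb] at g1 g2 g3 g4
      rw [tw_re]
      exact mul_mem (mul_mem (mul_mem (zz_mem_U hF g1 l1 _) (zz_mem_U hF g2 l2 _)) (zz_mem_U hF g3 l3 _))
        (zz_mem_U hF g4 l4 _)
    · rw [ha] at hx
      obtain ⟨t, rfl⟩ := (S.mem_XZ_odd a x).1 hx
      show tw K k (2 ^ m) (ro hφ (a : ZMod 8) t) ∈ F.U
      obtain ⟨b, hb'⟩ := ex_fin a 0 (by omega) (by omega)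
      have hb : (a : ZMod 8) = ((b.1 : ℕ) : ZMod 8) := by rw [hb']; push_cast; ring
      obtain ⟨g1, g2⟩ := tab_posO b
      obtain ⟨l1, l2, -⟩ := lt48 (a : ZMod 8)
      rw [← hb] at g1 g2
      rw [tw_ro]
      exact mul_mem (zz_mem_U hF g1 l1 _) (zz_mem_U hF g2 l2 _)
  exact h hu

/-- the anti-automorphism on the root elements -/
theorem τ_ro (hφ : Rln φ (2 ^ m)) (a : ZMod 8) (t : K) :
    F.τ (tw K k (2 ^ m) (ro hφ a t)) = (tw K k (2 ^ m) (ro hφ (a + 4) t))⁻¹ := by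
  obtain ⟨h1, h2, -⟩ := tab_neg a
  obtain ⟨l1, l2, -⟩ := lt48 a
  have hi : ∀ (r : ℕ) (s : k), (zz KindF.isType r s)⁻¹ = zz KindF.isType r s := fun r s => by
    rw [inv_eq_iff_mul_eq_one, ← zz_add, CharTwo.add_self_eq_zero, zz_zero]
  rw [tw_ro, tw_ro, F.τ_mul, τ_zz hF l1, τ_zz hF l2, mul_inv_rev, hi, hi, h1, h2]

theorem τ_re (hφ : Rln φ (2 ^ m)) (a : ZMod 8) (p u : K) :
    F.τ (tw K k (2 ^ m) (re hφ a p u)) = (tw K k (2 ^ m) (re hφ (a + 4) p u))⁻¹ := by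
  obtain ⟨-, -, h1, h2, h3, h4⟩ := tab_neg a
  obtain ⟨-, -, l1, l2, l3, l4⟩ := lt48 a
  have hi : ∀ (r : ℕ) (s : k), (zz KindF.isType r s)⁻¹ = zz KindF.isType r s := fun r s => by
    rw [inv_eq_iff_mul_eq_one, ← zz_add, CharTwo.add_self_eq_zero, zz_zero]
  rw [tw_re, tw_re, F.τ_mul, F.τ_mul, F.τ_mul, τ_zz hF l1, τ_zz hF l2, τ_zz hF l3, τ_zz hF l4, mul_inv_rev, mul_inv_rev,
    mul_inv_rev, hi, hi, hi, hi, h1, h2, h3, h4]

theorem Um_mem' (hK : Fintype.card K = 2 ^ (2 * m + 1)) (hφ : Rln φ (2 ^ m)) {u : ↥(twistedF4 K (2 ^ m))}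
    (hu : u ∈ (sysF hK hφ).Um) : tw K k (2 ^ m) u ∈ F.Um ∧ F.τ (tw K k (2 ^ m) u) ∈ (tw K k (2 ^ m)).range := by
  set S := full hK hφ with hS
  let N : Subgroup ↥(twistedF4 K (2 ^ m)) :=
    { carrier := {g | tw K k (2 ^ m) g ∈ F.Um ∧ F.τ (tw K k (2 ^ m) g) ∈ (tw K k (2 ^ m)).range}
      one_mem' := by
        refine ⟨?_, ?_⟩
        · rw [map_one]; exact one_mem _
        · rw [map_one, F.τ_one]; exact one_mem _
      mul_mem' := by
        rintro a b ⟨h1, h2⟩ ⟨h3, h4⟩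
        refine ⟨?_, ?_⟩
        · rw [map_mul]; exact mul_mem h1 h3
        · rw [map_mul, F.τ_mul]; exact mul_mem h4 h2
      inv_mem' := by
        rintro a ⟨h1, h2⟩
        refine ⟨?_, ?_⟩
        · rw [map_inv]; exact inv_mem h1
        · rw [map_inv, F.τ_inv]; exact inv_mem h2 }
  have h : J S.XZ 9 16 ≤ N := by
    refine J_le fun j h1 h2 x hx => ?_
    obtain ⟨a, ha⟩ := Int.even_or_odd' j
    rcases ha with ha | ha
    · rw [ha] at hx
      obtain ⟨p, u, rfl⟩ := (S.mem_XZ_even a x).1 hx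
      show tw K k (2 ^ m) (re hφ (a : ZMod 8) p u) ∈ F.Um ∧ F.τ (tw K k (2 ^ m) (re hφ (a : ZMod 8) p u)) ∈ _
      obtain ⟨b, hb'⟩ := ex_fin a 5 (by omega) (by omega)
      have hb : (a : ZMod 8) = ((b.1 + 1 : ℕ) : ZMod 8) + 4 := by rw [hb']; push_cast; ring
      refine ⟨?_, ?_⟩
      · obtain ⟨g1, g2, g3, g4⟩ := tab_posE b
        obtain ⟨-, -, l1, l2, l3, l4⟩ := tab_neg ((b.1 + 1 : ℕ) : ZMod 8)
        rw [← hb] at l1 l2 l3 l4
        rw [tw_re, l1, l2, l3, l4]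
        exact mul_mem (mul_mem (mul_mem (zz_mem_Um hF (by omega) _) (zz_mem_Um hF (by omega) _))
          (zz_mem_Um hF (by omega) _)) (zz_mem_Um hF (by omega) _)
      · rw [τ_re hF hφ]
        exact inv_mem ⟨_, rfl⟩
    · rw [ha] at hx
      obtain ⟨t, rfl⟩ := (S.mem_XZ_odd a x).1 hx
      show tw K k (2 ^ m) (ro hφ (a : ZMod 8) t) ∈ F.Um ∧ F.τ (tw K k (2 ^ m) (ro hφ (a : ZMod 8) t)) ∈ _
      obtain ⟨b, hb'⟩ := ex_fin a 4 (by omega) (by omega)
      have hb : (a : ZMod 8) = ((b.1 : ℕ) : ZMod 8) + 4 := by rw [hb']; push_cast; ring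
      refine ⟨?_, ?_⟩
      · obtain ⟨g1, g2⟩ := tab_posO b
        obtain ⟨l1, l2, -⟩ := tab_neg ((b.1 : ℕ) : ZMod 8)
        rw [← hb] at l1 l2
        rw [tw_ro, l1, l2]
        exact mul_mem (zz_mem_Um hF (by omega) _) (zz_mem_Um hF (by omega) _)
      · rw [τ_ro hF hφ]
        exact inv_mem ⟨_, rfl⟩
  exact h hu

theorem τ_mem' (hK : Fintype.card K = 2 ^ (2 * m + 1)) (hφ : Rln φ (2 ^ m)) :
    ∀ g ∈ (tw K k (2 ^ m)).range, F.τ g ∈ (tw K k (2 ^ m)).range := by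
  rintro _ ⟨g, rfl⟩
  have hg : g ∈ Subgroup.closure {g | g ∈ (sysF hK hφ).Um ∨ g ∈ (sysF hK hφ).H ∨ ∃ j, g = (sysF hK hφ).n j} := by
    rw [(sysF hK hφ).gen]; trivial
  have hro : ∀ a t, F.τ (tw K k (2 ^ m) (ro hφ a t)) ∈ (tw K k (2 ^ m)).range := fun a t => by
    rw [τ_ro hF hφ]
    exact inv_mem ⟨_, rfl⟩
  have hre : ∀ a p u, F.τ (tw K k (2 ^ m) (re hφ a p u)) ∈ (tw K k (2 ^ m)).range := fun a p u => by
    rw [τ_re hF hφ]
    exact inv_mem ⟨_, rfl⟩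
  induction hg using Subgroup.closure_induction with
  | mem g hg =>
    rcases hg with hg | hg | ⟨j, rfl⟩
    · exact (Um_mem' hF hK hφ hg).2
    · rw [F.τ_T _ (H_mem' hF hK hφ hg)]
      exact ⟨_, rfl⟩
    · cases j
      · have h : (sysF hK hφ).n false = re hφ 4 0 1 * re hφ 0 1 1 * re hφ 4 1 0 := n2_word hφ
        rw [h, map_mul, map_mul, F.τ_mul, F.τ_mul]
        exact mul_mem (hre _ _ _) (mul_mem (hre _ _ _) (hre _ _ _))
      · have h : (sysF hK hφ).n true = ro hφ 0 1 * ro hφ 4 1 * ro hφ 0 1 := n1_word hφ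
        rw [h, map_mul, map_mul, F.τ_mul, F.τ_mul]
        exact mul_mem (hro _ _) (mul_mem (hro _ _) (hro _ _))
  | one => rw [map_one, F.τ_one]; exact one_mem _
  | mul a b _ _ h1 h2 => rw [map_mul, F.τ_mul]; exact mul_mem h2 h1
  | inv a _ h1 => rw [map_inv, F.τ_inv]; exact inv_mem h1

/-- **(O3)** -/
theorem map_F (hm : 1 ≤ m) (hK : Fintype.card K = 2 ^ (2 * m + 1)) (hφ : Rln φ (2 ^ m)) :
    (sysF hK hφ).Map F (tw K k (2 ^ m)) orb (ee m) where
  U u hu := U_mem' hF hK hφ hu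
  Um u hu := (Um_mem' hF hK hφ hu).1
  H h hh := H_mem' hF hK hφ hh
  hh i j b := Δ_hh' hF hK hφ i j b
  n i j := Δ_n' hF hm hK hφ i j
  e_pos := ee_pos m
  τ := τ_mem' hF hK hφ

end fin

end Cfsg.Agent.H564.TW
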